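import Cfsg.Agent.Omega.F4Leaf.Cen.Mod
import Cfsg.Agent.Omega.NTwo.Kill
import Cfsg.Agent.Omega.F4Leaf.App
import Cfsg.Agent.Omega.F4Leaf.Def

/-!
# LeafF4, `m = 2`, `n` 2-central (bb OMEGA #16971, #18108): standard position, `Ω₁Z(T) = Z ⟨n⟩`

`SV S P V₀ p` : `V_P = V₀ × A`, `p 0, …, p 4` the five points of `A`, `S` acts as the dihedral group `D8`
(`01 | 23 | 4`).  `n = p 0 * p 1`, `a = p 2 * p 3`, `s = p 4`, `T = C_S(n)`, `Z = Ω₁Z(S) = V₀ × ⟨s⟩`.

* `SV.mem_zcT` : `Ω₁Z(T) = Z ∪ nZ`.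
-/

set_option autoImplicit false
set_option linter.unusedSectionVars false

namespace Cfsg.Agent.Omega.F4Leaf.Cen

open Subgroup Cfsg Cfsg.Agent.MinSimple.VModule
open Cfsg.Agent.ZN (zc zl o2)
open Cfsg.Agent.Omega.MinPar (IsPar IsParS IsLoc)
open Cfsg.Agent.Omega.NTwo (Fv D8 nn aa cm cc ci conj_inj comm_iff mem_cent)

universe u

variable {G : Type u} [Group G]

/-- Standard position, `V_P = V₀ × A`. -/
structure SV (S P V0 : Subgroup G) (p : Fin 5 → G) : Prop extends Fv P p where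
  par : IsParS S P
  act : ∀ x ∈ S, ∃ d ∈ D8, ∀ i, x * p i * x⁻¹ = p (d i)
  act8 : ∀ d ∈ D8, ∃ x ∈ S, ∀ i, x * p i * x⁻¹ = p (d i)
  v0 : V0 ≤ zc S
  cen : ∀ v ∈ V0, ∀ g ∈ P, g * v * g⁻¹ = v
  zc4 : ∀ x ∈ zc S, x ∈ V0 ∨ x * p 4 ∈ V0
  zlV : ∀ x ∈ zl S P, ∃ v ∈ V0, ∃ a ∈ closure (Set.range p), x = v * a
  pV : ∀ i, p i ∈ zl S P
  pS : ∀ i, p i ∈ S
  same : ∀ g ∈ P, ∀ k ∈ P, (∀ i, g * p i * g⁻¹ = k * p i * k⁻¹) → ∀ y ∈ zc (o2 P), g * y * g⁻¹ = k * y * k⁻¹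

/-- `T = C_S(n)` -/
abbrev TT (S : Subgroup G) (p : Fin 5 → G) : Subgroup G := NTwo.Std.T S p

theorem mem_T {S : Subgroup G} {p : Fin 5 → G} {x : G} : x ∈ TT S p ↔ x ∈ S ∧ x * nn p * x⁻¹ = nn p :=
  NTwo.Std.mem_T

theorem T_le {S : Subgroup G} {p : Fin 5 → G} : TT S p ≤ S := NTwo.Std.T_le

namespace SV

section basic

variable {S P V0 : Subgroup G} {p : Fin 5 → G} (h : SV S P V0 p)
include h

theorem le : S ≤ P := h.par.le

theorem fix {x : G} (hx : x ∈ S) : x * p 4 * x⁻¹ = p 4 := by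
  obtain ⟨d, hd, h1⟩ := h.act x hx
  rw [h1, NTwo.D8_fix d hd]

theorem s_mem : p 4 ∈ zc S :=
  mem_zc.2 ⟨h.pS 4, fun _ hb => comm_iff.1 (h.fix hb), by rw [sq]; exact h.sq 4⟩

theorem part {x : G} (hx : x ∈ S) : x * nn p * x⁻¹ = nn p ∨ x * nn p * x⁻¹ = aa p := by
  obtain ⟨d, hd, h2⟩ := h.act x hx
  rw [cm, h2, h2]
  rcases NTwo.D8_part d hd with (⟨e1, e2⟩ | ⟨e1, e2⟩) | (⟨e1, e2⟩ | ⟨e1, e2⟩)
  · left; rw [e1, e2]
  · left; rw [e1, e2]; exact h.comm _ _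
  · right; rw [e1, e2]
  · right; rw [e1, e2]; exact h.comm _ _

/-- `x ∈ S` acting as `(0 2)(1 3)` -/
theorem tau : ∃ x ∈ S, ∀ i, x * p i * x⁻¹ = p (Mod.χ i) := h.act8 _ (by decide +kernel)

theorem na : nn p * aa p = p 4 := h.prod

theorem nsq : nn p * nn p = 1 := by
  rw [nn, mul_assoc, ← mul_assoc (p 1), h.comm 1 0, mul_assoc (p 0), h.sq, mul_one, h.sq]

theorem asq : aa p * aa p = 1 := by
  rw [aa, mul_assoc, ← mul_assoc (p 3), h.comm 3 2, mul_assoc (p 2), h.sq, mul_one, h.sq]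

theorem ninv : (nn p)⁻¹ = nn p := inv_eq_of_mul_eq_one_left h.nsq

theorem ainv : (aa p)⁻¹ = aa p := inv_eq_of_mul_eq_one_left h.asq

theorem a_eq : aa p = nn p * p 4 := by
  rw [← h.na, ← mul_assoc, h.nsq, one_mul]

theorem n_ne_one : nn p ≠ 1 := h.mul_ne_one (by decide)

theorem a_ne_one : aa p ≠ 1 := h.mul_ne_one (by decide)

theorem n_ne_a : nn p ≠ aa p := fun e => h.ne 4 (by rw [← h.na, ← e, h.nsq])

theorem pcomm (i : Fin 5) : nn p * p i = p i * nn p := by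
  rw [nn, mul_assoc, h.comm 1 i, ← mul_assoc, h.comm 0 i, mul_assoc]

theorem pcomm' (i : Fin 5) : aa p * p i = p i * aa p := by
  rw [aa, mul_assoc, h.comm 3 i, ← mul_assoc, h.comm 2 i, mul_assoc]

theorem an : aa p * nn p = p 4 := by
  rw [h.a_eq, h.pcomm, mul_assoc, h.nsq, mul_one]

theorem as : aa p * p 4 = nn p := by rw [← h.an, ← mul_assoc, h.asq, one_mul]

theorem a_eq_conj {x : G} (hx : x ∈ S) (e : x * nn p * x⁻¹ = aa p) : x * aa p * x⁻¹ = nn p := by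
  rw [h.a_eq, cm, e, h.fix hx, h.a_eq, mul_assoc, h.sq, mul_one]

theorem n_mem : nn p ∈ S := mul_mem (h.pS 0) (h.pS 1)

theorem a_mem : aa p ∈ S := mul_mem (h.pS 2) (h.pS 3)

theorem n_V : nn p ∈ zl S P := mul_mem (h.pV 0) (h.pV 1)

theorem a_V : aa p ∈ zl S P := mul_mem (h.pV 2) (h.pV 3)

theorem T_a {x : G} (hx : x ∈ TT S p) : x * aa p * x⁻¹ = aa p := by
  obtain ⟨h1, h2⟩ := mem_T.1 hx
  rw [h.a_eq, cm, h2, h.fix h1]

theorem v0_S {v : G} (hv : v ∈ V0) : v ∈ S := zc_le _ (h.v0 hv)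

theorem v0_sq {v : G} (hv : v ∈ V0) : v * v = 1 := by
  have := (mem_zc.1 (h.v0 hv)).2.2
  rwa [pow_two] at this

/-- no nontrivial element of `A` is in `V₀` -/
theorem p_notin (i : Fin 5) : p i ∉ V0 := by
  intro hi
  obtain ⟨j, hj, -⟩ := Fv.exists_fourth i i i
  obtain ⟨g, hg, h1⟩ := h.full (Equiv.swap i j)
  have h2 := h.cen _ hi g hg
  rw [h1, Equiv.swap_apply_left] at h2
  exact hj (h.inj h2)

theorem n_notin : nn p ∉ V0 := by
  intro hi
  obtain ⟨g, hg, h1⟩ := h.full Mod.χ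
  have h2 := h.cen _ hi g hg
  rw [nn, cm, h1, h1] at h2
  exact h.n_ne_a h2.symm

theorem le_norm_T : S ≤ normalizer (TT S p : Set G) := by
  have key : ∀ x ∈ S, ∀ y ∈ TT S p, x * y * x⁻¹ ∈ TT S p := by
    intro x hx y hy
    obtain ⟨h1, h2⟩ := mem_T.1 hy
    refine mem_T.2 ⟨mul_mem (mul_mem hx h1) (inv_mem hx), ?_⟩
    have hx' := inv_mem hx
    have h3 : x⁻¹ * nn p * x = nn p ∨ x⁻¹ * nn p * x = aa p := by
      have := h.part hx'
      rwa [inv_inv] at this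
    have h4 : y * (x⁻¹ * nn p * x) * y⁻¹ = x⁻¹ * nn p * x := by
      rcases h3 with h3 | h3
      · rw [h3, h2]
      · rw [h3, h.T_a hy]
    calc x * y * x⁻¹ * nn p * (x * y * x⁻¹)⁻¹ = x * (y * (x⁻¹ * nn p * x) * y⁻¹) * x⁻¹ := by group
      _ = nn p := by rw [h4]; group
  intro x hx
  rw [mem_normalizer_iff]
  refine fun y => ⟨key x hx y, fun hy => ?_⟩
  have := key x⁻¹ (inv_mem hx) _ hy
  have e : x⁻¹ * (x * y * x⁻¹) * x⁻¹⁻¹ = y := by group
  rwa [e] at this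

theorem two_T {x y : G} (hx : x ∈ S) (hy : y ∈ S) (hx' : x ∉ TT S p) (hy' : y ∉ TT S p) : x⁻¹ * y ∈ TT S p := by
  have h1 : x * nn p * x⁻¹ = aa p := (h.part hx).resolve_left fun e => hx' (mem_T.2 ⟨hx, e⟩)
  have h2 : y * nn p * y⁻¹ = aa p := (h.part hy).resolve_left fun e => hy' (mem_T.2 ⟨hy, e⟩)
  refine mem_T.2 ⟨mul_mem (inv_mem hx) hy, ?_⟩
  calc x⁻¹ * y * nn p * (x⁻¹ * y)⁻¹ = x⁻¹ * (y * nn p * y⁻¹) * x := by group
    _ = x⁻¹ * (x * nn p * x⁻¹) * x := by rw [h1, h2]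
    _ = nn p := by group

theorem tau_notin {x : G} (e : x * nn p * x⁻¹ = aa p) : x ∉ TT S p := fun h3 =>
  h.n_ne_a ((mem_T.1 h3).2.symm.trans e)

theorem card_S [Finite G] : Nat.card S = 2 * Nat.card (TT S p) := by
  have e : Nat.card ((TT S p).subgroupOf S) = Nat.card (TT S p) := Nat.card_congr (subgroupOfEquivOfLe T_le).toEquiv
  have h1 := card_mul_index ((TT S p).subgroupOf S)
  obtain ⟨τ, hτ, h2⟩ := h.tau
  have h2' : τ * nn p * τ⁻¹ = aa p := by rw [nn, cm, h2, h2]; rfl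
  have h3 : ((TT S p).subgroupOf S).index = 2 := by
    rw [index_eq_two_iff]
    refine ⟨⟨τ, hτ⟩⁻¹, fun b => ?_⟩
    have hτT : τ ∉ TT S p := h.tau_notin h2'
    rw [mem_subgroupOf, mem_subgroupOf]
    change Xor ((b : G) * τ⁻¹ ∈ TT S p) ((b : G) ∈ TT S p)
    by_cases hb : (b : G) ∈ TT S p
    · refine Or.inr ⟨hb, fun h4 => hτT ?_⟩
      have := mul_mem (inv_mem h4) hb
      simpa using this
    · refine Or.inl ⟨?_, hb⟩
      have h5 := h.two_T (inv_mem b.2) (inv_mem hτ) (fun h6 => hb ((inv_mem_iff).1 h6))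
        (fun h6 => hτT ((inv_mem_iff).1 h6))
      rwa [inv_inv] at h5
  rw [e, h3] at h1
  omega

theorem zc_le_T : zc S ≤ TT S p := fun _ hx =>
  mem_T.2 ⟨zc_le _ hx, comm_iff.2 ((mem_zc.1 hx).2.1 _ h.n_mem).symm⟩

theorem zc_le_zcT : zc S ≤ zc (TT S p) := fun _ hx =>
  mem_zc.2 ⟨h.zc_le_T hx, fun b hb => (mem_zc.1 hx).2.1 b (T_le hb), (mem_zc.1 hx).2.2⟩

theorem n_zcT : nn p ∈ zc (TT S p) :=
  mem_zc.2 ⟨mem_T.2 ⟨h.n_mem, by group⟩, fun b hb => comm_iff.1 (mem_T.1 hb).2, by rw [pow_two]; exact h.nsq⟩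

theorem a_zcT : aa p ∈ zc (TT S p) := by
  rw [h.a_eq]
  exact mul_mem h.n_zcT (h.zc_le_zcT h.s_mem)

end basic

section fin

variable [Finite G] (hG : IsCharacteristicTwoType G) (S : Sylow 2 G) {P V0 : Subgroup G} {p : Fin 5 → G}
  (h : SV (S : Subgroup G) P V0 p)
include hG h

theorem mem_D {d : G} : d ∈ o2 P ↔ d ∈ (S : Subgroup G) ∧ ∀ i, d * p i * d⁻¹ = p i := by
  rw [← h.par.inf_centralizer S hG, mem_inf, mem_centralizer_iff]
  refine and_congr_right fun hd => ⟨fun h1 i => comm_iff.2 (h1 _ (h.pV i)).symm, fun h1 y hy => ?_⟩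
  have key : ∀ a ∈ closure (Set.range p), a * d = d * a := by
    intro a ha
    induction ha using closure_induction with
    | mem x hx =>
      obtain ⟨i, rfl⟩ := hx
      exact (comm_iff.1 (h1 i)).symm
    | one => rw [one_mul, mul_one]
    | mul x y _ _ hx hy => rw [mul_assoc, hy, ← mul_assoc, hx, mul_assoc]
    | inv x _ hx =>
      have : Commute x d := hx
      exact this.inv_left
  obtain ⟨v, hv, a, ha, rfl⟩ := h.zlV y hy
  have h2 : v * d = d * v := by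
    have := h.cen v hv d (h.le hd)
    rw [comm_iff] at this
    exact this.symm
  rw [mul_assoc, key a ha, ← mul_assoc, h2, mul_assoc]

theorem D_le_T : o2 P ≤ TT (S : Subgroup G) p := by
  intro d hd
  obtain ⟨h1, h2⟩ := (h.mem_D hG S).1 hd
  exact mem_T.2 ⟨h1, by rw [nn, cm, h2, h2]⟩

theorem zcT_le : zc (TT (S : Subgroup G) p) ≤ zc (o2 P) := by
  intro x hx
  obtain ⟨h1, h2, h3⟩ := mem_zc.1 hx
  have h4 : x ∈ o2 P := h.par.isLoc.char2 S hG (mem_inf.2 ⟨h.le (T_le h1),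
    mem_centralizer_iff.2 fun d hd => h2 d (h.D_le_T hG S hd)⟩)
  exact mem_zc.2 ⟨h4, fun d hd => h2 d (h.D_le_T hG S hd), h3⟩

theorem p_zcD (i : Fin 5) : p i ∈ zc (o2 P) := h.par.isLoc.zl_le S hG (h.pV i)

theorem norm_zcD {g y : G} (hg : g ∈ P) (hy : y ∈ zc (o2 P)) : g * y * g⁻¹ ∈ zc (o2 P) :=
  (mem_normalizer_iff.1 (normalizer_le_normalizer_zc _ (le_normalizer_o2 P hg)) y).1 hy

/-- `Ω₁(Z(T)) = Z ∪ nZ` -/
theorem mem_zcT {x : G} (hx : x ∈ zc (TT (S : Subgroup G) p)) :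
    x ∈ zc (S : Subgroup G) ∨ nn p * x ∈ zc (S : Subgroup G) := by
  classical
  have hxF := h.zcT_le hG S hx
  let _ : CommGroup (zc (o2 P)) := { (inferInstance : Group (zc (o2 P))) with
    mul_comm := fun a b => Subtype.ext ((mem_zc.1 b.2).2.1 _ (zc_le _ a.2)) }
  choose f hfP hfA using h.full
  let act : DistribMulAction (Equiv.Perm (Fin 5)) (Additive (zc (o2 P))) :=
    { smul := fun σ y => Additive.ofMul ⟨f σ * (y.toMul : G) * (f σ)⁻¹, h.norm_zcD hG S (hfP σ) y.toMul.2⟩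
      one_smul := fun y => by
        refine congrArg Additive.ofMul (Subtype.ext ?_)
        have h1 := h.same (f 1) (hfP 1) 1 P.one_mem (fun i => by rw [hfA]; simp) _ y.toMul.2
        rw [one_mul, inv_one, mul_one] at h1
        exact h1
      mul_smul := fun σ τ y => by
        refine congrArg Additive.ofMul (Subtype.ext ?_)
        have h1 := h.same (f (σ * τ)) (hfP _) (f σ * f τ) (P.mul_mem (hfP σ) (hfP τ))
          (fun i => by rw [hfA, ← cc, hfA, hfA]; rfl) _ y.toMul.2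
        refine h1.trans ?_
        change f σ * f τ * (y.toMul : G) * (f σ * f τ)⁻¹ = f σ * (f τ * (y.toMul : G) * (f τ)⁻¹) * (f σ)⁻¹
        group
      smul_zero := fun σ => by
        refine congrArg Additive.ofMul (Subtype.ext ?_)
        change f σ * (1 : G) * (f σ)⁻¹ = 1
        group
      smul_add := fun σ x y => by
        refine congrArg Additive.ofMul (Subtype.ext ?_)
        change f σ * ((x.toMul : G) * (y.toMul : G)) * (f σ)⁻¹ =
          f σ * (x.toMul : G) * (f σ)⁻¹ * (f σ * (y.toMul : G) * (f σ)⁻¹)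
        group }
  have hact : ∀ (σ : Equiv.Perm (Fin 5)) (y : Additive (zc (o2 P))),
      (((σ • y).toMul : zc (o2 P)) : G) = f σ * (y.toMul : G) * (f σ)⁻¹ := fun _ _ => rfl
  have hext : ∀ {x y : Additive (zc (o2 P))}, ((x.toMul : zc (o2 P)) : G) = ((y.toMul : zc (o2 P)) : G) → x = y := by
    intro x y hxy
    exact congrArg Additive.ofMul (Subtype.ext hxy)
  let c : Fin 5 → Additive (zc (o2 P)) := fun i => Additive.ofMul ⟨p i, h.p_zcD hG S i⟩
  -- a `D8`-fixed vector is in `Ω₁(Z(S))`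
  have hfix : ∀ y : Additive (zc (o2 P)), (∀ d ∈ D8, d • y = y) → ((y.toMul : zc (o2 P)) : G) ∈ zc (S : Subgroup G) := by
    intro y hy
    refine mem_zc.2 ⟨h.par.isLoc.o2_le S (zc_le _ y.toMul.2), fun b hb => ?_, (mem_zc.1 y.toMul.2).2.2⟩
    obtain ⟨d, hd, h1⟩ := h.act b hb
    have h2 := congrArg (fun w : Additive (zc (o2 P)) => ((w.toMul : zc (o2 P)) : G)) (hy d hd)
    change f d * ((y.toMul : zc (o2 P)) : G) * (f d)⁻¹ = ((y.toMul : zc (o2 P)) : G) at h2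
    have h3 := h.same b (h.le hb) (f d) (hfP d) (fun i => by rw [h1, hfA]) _ y.toMul.2
    rw [h2] at h3
    exact comm_iff.1 h3
  have hM : Mod.Mo c :=
    { two := fun y => hext (by
        have := (mem_zc.1 y.toMul.2).2.2
        rw [pow_two] at this
        exact this)
      act := fun σ i => hext (hfA σ i)
      sum := hext h.prod
      fixed := fun y hy => by
        rcases h.zc4 _ (hfix y hy) with h1 | h1
        · left
          intro σ
          refine hext ?_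
          rw [hact]
          exact h.cen _ h1 _ (hfP σ)
        · right
          intro σ
          refine hext ?_
          rw [hact]
          exact h.cen _ h1 _ (hfP σ) }
  let b : Additive (zc (o2 P)) := Additive.ofMul ⟨x, hxF⟩
  have hb : ∀ σ, Mod.Rs σ → σ • b = b := by
    intro σ hσ
    have hD : σ ∈ D8 := by
      revert σ
      decide +kernel
    obtain ⟨t, ht, h1⟩ := h.act8 σ hD
    have htT : t ∈ TT (S : Subgroup G) p := by
      refine mem_T.2 ⟨ht, ?_⟩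
      rw [nn, cm, h1, h1]
      rcases hσ.1 with ⟨e0, e1⟩ | ⟨e0, e1⟩
      · rw [e0, e1]
      · rw [e0, e1]; exact h.comm _ _
    refine hext ?_
    rw [hact]
    change f σ * x * (f σ)⁻¹ = x
    rw [← h.same t (h.le ht) (f σ) (hfP σ) (fun i => by rw [h1, hfA]) x hxF, comm_iff]
    exact (mem_zc.1 hx).2.1 t htT
  rcases hM.key hb with h1 | h1
  · exact Or.inl (hfix b h1)
  · right
    have h2 := hfix _ h1
    change x * (p 0 * p 1) ∈ _ at h2
    rwa [(mem_zc.1 hx).2.1 (nn p) (mem_T.2 ⟨h.n_mem, by group⟩)]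

end fin

end SV

end Cfsg.Agent.Omega.F4Leaf.Cen
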