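import Cfsg.Agent.Omega.F4Leaf.Cen.Std
import Cfsg.Agent.Omega.F4Leaf.NatStep
import Cfsg.Agent.Omega.MixOne.Frame4

/-!
# LeafF4, `m = 2`, `n` 2-central: `TTSide` from `LabTwoZ`, `NatSide` from `LabZ`
-/

set_option autoImplicit false
set_option linter.unusedSectionVars false

namespace Cfsg.Agent.Omega.F4Leaf.Cen.Entry

open Subgroup Cfsg Cfsg.Agent.MinSimple.VModule Pointwise
open Cfsg.Agent.MinSimple.Basic (not_dvd_relIndex char2_centralizer)
open Cfsg.Agent.ZN (zc zl o2)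
open Cfsg.Agent.ZN.ChoiceBase (cj mem_cj)
open Cfsg.Agent.Omega.MinPar (IsPar IsParS IsLoc)
open Cfsg.Agent.Omega.FrameFF (cv)
open Cfsg.Agent.Omega.S5.Def Cfsg.Agent.Omega.S5.Syl Cfsg.Agent.Omega.S5.Pair Cfsg.Agent.Omega.S5.Main
open Cfsg.Agent.Omega.F4Leaf.Def
open Cfsg.Agent.Omega.S5.Mod (le_o2_of_comm)
open Cfsg.Agent.Omega.NTwo (Fv D8 D8_fix D8_one exists_D8 nn aa cm cc ci conj_inj comm_iff mem_cent mem_smul
  o2_cent_conj o2_cent_conj')
open Cfsg.Agent.Omega.F4Leaf.Cen.V (El)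
open scoped commutatorElement

universe u

variable {G : Type u} [Group G] [Finite G] (hG : IsCharacteristicTwoType G) {S : Sylow 2 G}

/-- the partner does not centralise `A` -/
theorem not_le_cent {P₁ P₂ : Subgroup G} {y : G} {m : ℕ} {A : Subgroup G} {ε : (Fin (2 ^ m + 1) → ZMod 2) → G}
    (hG : IsCharacteristicTwoType G) (hl : LabZ S P₁ P₂ y m A ε) :
    ¬ cj y (zl (S : Subgroup G) P₂) ≤ centralizer (A : Set G) := by
  intro h0
  apply hl.off₁.ne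
  intro w hw
  refine mem_centralizer_iff.2 fun v hv => ?_
  obtain ⟨d, hd, a, ha, rfl⟩ := hl.split.mul_eq hG hl.pair.star₁ hv
  have h1 : w * d = d * w := hl.split.comm (hl.pair.star₁.le (hl.le hw)) hd
  have h2 : a * w = w * a := mem_centralizer_iff.1 (h0 hw) a ha
  rw [mul_assoc, h2, ← mul_assoc, ← h1, mul_assoc]

/-- elements acting as a transposition in a smaller group -/
theorem acts_part {n : ℕ} {V L : Subgroup G} {ε : (Fin n → ZMod 2) → G} (h : EvenSet n V L ε) {c c0 c1 : G}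
    {σ : Equiv.Perm (Fin n)} (hc : Acts ε c σ) (e : c = c0 * c1) (h0 : ∀ v ∈ V, c0 * v = v * c0) : Acts ε c1 σ := by
  have h1 : Acts ε c0 1 := h.acts_one_iff.2 (mem_centralizer_iff.2 fun v hv => (h0 v hv).symm)
  have h2 := h1.inv.mul hc
  have e1 : c0⁻¹ * c = c1 := by rw [e]; group
  rwa [e1, inv_one, one_mul] at h2

/-- `n = [p i, b]` -/
theorem comm_eq {n : ℕ} {V L : Subgroup G} {ε : (Fin n → ZMod 2) → G} (h : EvenSet n V L ε) {b : G} {i j : Fin n}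
    (hb : Acts ε b (Equiv.swap i j)) :
    ⁅ε (Pi.single i 1), b⁆ = ε (Pi.single i 1) * ε (Pi.single j 1) := by
  have h1 := hb.single i
  rw [Equiv.swap_apply_left] at h1
  rw [commutatorElement_def, h.inv]
  have e : ε (Pi.single i 1) * b * ε (Pi.single i 1) * b⁻¹ = ε (Pi.single i 1) * (b * ε (Pi.single i 1) * b⁻¹) := by
    group
  rw [e, h1]

include hG

/-- `El` from the action of `O₂(C(n))` on the element -/
theorem el_of {P V0 : Subgroup G} {p : Fin 5 → G} (h : SV (S : Subgroup G) P V0 p) {b : G}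
    (h0 : b * p 0 * b⁻¹ = p 1) (h1 : b * p 1 * b⁻¹ = p 0)
    (hQ : ∀ q ∈ o2 (centralizer ({nn p} : Set G)), q * b * q⁻¹ = b ∨ q * b * q⁻¹ = nn p * b) : El p b := by
  refine ⟨h0, ?_, fun q hq => ?_⟩
  · rw [nn, cm, h0, h1]
    exact h.comm _ _
  · have hqn : nn p * q = q * nn p := by
      have := mem_cent.1 (o2_le _ hq)
      rw [comm_iff] at this
      exact this.symm
    rcases hQ q hq with h2 | h2
    · left
      rw [comm_iff] at h2 ⊢
      exact h2.symm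
    · right
      have h3 : q * b = nn p * b * q := by rw [← h2]; group
      have h4 : b * q = nn p * (q * b) := by
        rw [h3, ← mul_assoc, ← mul_assoc, h.nsq, one_mul]
      rw [h4]
      group

/-- **Two members of type `S₅`.** -/
theorem tt_side {P₁ P₂ : Subgroup G} {y : G} {A : Subgroup G} {ε : (Fin (2 ^ 2 + 1) → ZMod 2) → G}
    {A₂ : Subgroup G} {ε₂ : (Fin (2 ^ 2 + 1) → ZMod 2) → G} (hl : LabTwoZ S P₁ P₂ y 2 2 A ε A₂ ε₂)
    (hC : Cen (zl (S : Subgroup G) P₁) (cj y (zl (S : Subgroup G) P₂))) :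
    ∃ p e p₂ e₂, TTSide (S : Subgroup G) P₁ P₂ y p e p₂ e₂ := by
  have hn : 3 ≤ 2 ^ 2 + 1 := by norm_num
  have hev := hl.split.even
  have hev₂ := hl.split₂.even
  have hP₁ := hl.pair.star₁
  have hP₂ := hl.pair.star₂
  have hVS := Std.V_le_S hG S hl.split hP₁
  obtain ⟨b, hb, i, j, hij, hbs⟩ := S5.Nat.exists_swap hev hl.side (not_le_cent hG hl.toLabZ)
  obtain ⟨ε', hε'⟩ : ∃ ε' : (Fin (2 ^ 2 + 1) → ZMod 2) → G, ε' = fun x => y * ε₂ x * y⁻¹ := ⟨_, rfl⟩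
  have hev' : EvenSet (2 ^ 2 + 1) (cj y A₂) (cj y P₂) ε' := hε' ▸ hev₂.conj y
  -- `b = b₀ b'`
  obtain ⟨d, hd, a, ha, hda⟩ := hl.split₂.mul_eq hG hP₂ (mem_cj.1 hb)
  obtain ⟨b', hb'⟩ : ∃ b', b' = y * a * y⁻¹ := ⟨_, rfl⟩
  have hb'A : b' ∈ cj y A₂ := by
    rw [mem_cj, hb']
    have e : y⁻¹ * (y * a * y⁻¹) * y = a := by group
    rwa [e]
  have hb'W : b' ∈ cj y (zl (S : Subgroup G) P₂) := by
    rw [mem_cj] at hb'A ⊢
    exact hl.split₂.A_le hb'A
  have hgeP : ∀ v ∈ zl (S : Subgroup G) P₁, y⁻¹ * v * y ∈ P₂ := fun v hv => hP₂.le (mem_cj.1 (hl.ge hv))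
  have hb's : Acts ε b' (Equiv.swap i j) := by
    refine acts_part hev hbs (c0 := y * d * y⁻¹) ?_ fun v hv => ?_
    · rw [hb']
      calc b = y * (y⁻¹ * b * y) * y⁻¹ := by group
        _ = y * d * y⁻¹ * (y * a * y⁻¹) := by rw [hda]; group
    · have h1 : (y⁻¹ * v * y) * d = d * (y⁻¹ * v * y) := hl.split₂.comm (hgeP v (hl.split.A_le hv)) hd
      calc y * d * y⁻¹ * v = y * (d * (y⁻¹ * v * y)) * y⁻¹ := by group
        _ = y * ((y⁻¹ * v * y) * d) * y⁻¹ := by rw [h1]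
        _ = v * (y * d * y⁻¹) := by group
  -- `Side A ε'`
  have hsA : Side A ε' := by
    intro v hv
    obtain ⟨τ, hτ, h2⟩ := hl.side₂ v (hl.split.A_le hv)
    rw [← hε'] at hτ h2
    refine ⟨τ, hτ, fun k hk => ⟨(h2 k hk).1, ?_⟩⟩
    obtain ⟨c, hc, hcs⟩ := (h2 k hk).2
    obtain ⟨c0, hc0, c1, hc1, hcc⟩ := hl.split.mul_eq hG hP₁ hc
    refine ⟨c1, hc1, acts_part hev' hcs hcc fun w hw => ?_⟩
    have hwP : w ∈ P₁ := by
      refine hP₁.le (hl.le ?_)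
      rw [mem_cj] at hw ⊢
      exact hl.split₂.A_le hw
    exact (hl.split.comm hwP hc0).symm
  obtain ⟨k, l, hkl, hnn, c, hcA, hcs, hbc⟩ := match_swap hev hev' hn hn hsA hb'A hij hb's
  have hcV : c ∈ zl (S : Subgroup G) P₁ := hl.split.A_le hcA
  -- positions
  obtain ⟨ρ, hρ0, hρ1, sv⟩ := Std.exists_sv hG S hl.split hP₁ hij (hl.le hb'W) hb's
  have hc₂S : y⁻¹ * c * y ∈ (S : Subgroup G) := mem_cj.1 (hl.ge hcV)
  have hc₂s : Acts ε₂ (y⁻¹ * c * y) (Equiv.swap k l) := by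
    rw [← acts_conj_label_iff y, ← hε']
    have e : y * (y⁻¹ * c * y) * y⁻¹ = c := by group
    rwa [e]
  obtain ⟨ρ₂, hρ₂0, hρ₂1, sv₂⟩ := Std.exists_sv hG S hl.split₂ hP₂ hkl hc₂S hc₂s
  obtain ⟨p, hp⟩ : ∃ p : Fin 5 → G, p = fun k => ε (Pi.single (M := fun _ : Fin (2 ^ 2 + 1) => ZMod 2) (ρ k) 1) :=
    ⟨_, rfl⟩
  obtain ⟨p₂, hp₂⟩ : ∃ p₂ : Fin 5 → G, p₂ = fun k => ε₂ (Pi.single (M := fun _ : Fin (2 ^ 2 + 1) => ZMod 2) (ρ₂ k) 1) :=
    ⟨_, rfl⟩
  rw [← hp] at sv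
  rw [← hp₂] at sv₂
  have hp0 : p 0 = ε (Pi.single i 1) := by rw [hp, ← hρ0]
  have hp1 : p 1 = ε (Pi.single j 1) := by rw [hp, ← hρ1]
  have hq0 : p₂ 0 = ε₂ (Pi.single k 1) := by rw [hp₂, ← hρ₂0]
  have hq1 : p₂ 1 = ε₂ (Pi.single l 1) := by rw [hp₂, ← hρ₂1]
  have hnp : nn p = ε (Pi.single i 1) * ε (Pi.single j 1) := by rw [nn, hp0, hp1]
  have hnn₂ : y * nn p₂ * y⁻¹ = nn p := by
    rw [hnp, ← hev.add, hnn, hev'.add, hε', nn, hq0, hq1]
    group
  -- 2-central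
  obtain ⟨T₀, hT₀⟩ := hC
  have hnc : nn p ∈ (⁅zl (S : Subgroup G) P₁, cj y (zl (S : Subgroup G) P₂)⁆ : Subgroup G) := by
    rw [hnp, ← comm_eq hev hb's]
    exact commutator_mem_commutator (hl.split.A_le (hev.mem _)) hb'W
  have hN : NCen p := by
    refine ⟨T₀, fun x hx => ?_⟩
    rw [mem_cent, comm_iff]
    exact (mem_centralizer_iff.1 (hT₀ hx) _ hnc).symm
  have hN₂ : NCen p₂ := by
    obtain ⟨T, hT⟩ := hN
    refine ⟨y⁻¹ • T, fun x hx => ?_⟩
    rw [mem_smul, inv_inv] at hx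
    have h1 := mem_cent.1 (hT hx)
    rw [mem_cent]
    rw [← hnn₂] at h1
    calc x * nn p₂ * x⁻¹ = y⁻¹ * (y * x * y⁻¹ * (y * nn p₂ * y⁻¹) * (y * x * y⁻¹)⁻¹) * y := by group
      _ = nn p₂ := by rw [h1]; group
  obtain ⟨T₁, t₁⟩ := R.exists_tOne S sv hN
  obtain ⟨T₂, t₂⟩ := R.exists_tOne S sv₂ hN₂
  -- the elements
  have e0 := hb's.single i
  have e1 := hb's.single j
  rw [Equiv.swap_apply_left, ← hp0, ← hp1] at e0
  rw [Equiv.swap_apply_right, ← hp0, ← hp1] at e1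
  have f0 := hc₂s.single k
  have f1 := hc₂s.single l
  rw [Equiv.swap_apply_left, ← hq0, ← hq1] at f0
  rw [Equiv.swap_apply_right, ← hq0, ← hq1] at f1
  have hyc : y * (y⁻¹ * c * y) * y⁻¹ = c := by group
  refine ⟨p, b', p₂, y⁻¹ * c * y, sv, hN, ?_, hb'W, sv₂, hN₂, ?_, by rwa [hyc], hnn₂, by rwa [hyc]⟩
  · refine el_of hG sv e0 e1 fun q hq => ?_
    rcases Q.Q_V hG S sv₂ t₂ (o2_cent_conj' hnn₂ hq) (mem_cj.1 hb'W) with h1 | h1
    · left
      calc q * b' * q⁻¹ = y * (y⁻¹ * q * y * (y⁻¹ * b' * y) * (y⁻¹ * q * y)⁻¹) * y⁻¹ := by group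
        _ = b' := by rw [h1]; group
    · right
      calc q * b' * q⁻¹ = y * (y⁻¹ * q * y * (y⁻¹ * b' * y) * (y⁻¹ * q * y)⁻¹) * y⁻¹ := by group
        _ = (y * nn p₂ * y⁻¹) * b' := by rw [h1]; group
        _ = nn p * b' := by rw [hnn₂]
  · refine el_of hG sv₂ f0 f1 fun q hq => ?_
    rcases Q.Q_V hG S sv t₁ (o2_cent_conj hnn₂ hq) hcV with h1 | h1
    · left
      calc q * (y⁻¹ * c * y) * q⁻¹ = y⁻¹ * ((y * q * y⁻¹) * c * (y * q * y⁻¹)⁻¹) * y := by group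
        _ = y⁻¹ * c * y := by rw [h1]
    · right
      calc q * (y⁻¹ * c * y) * q⁻¹ = y⁻¹ * ((y * q * y⁻¹) * c * (y * q * y⁻¹)⁻¹) * y := by group
        _ = y⁻¹ * (nn p * c) * y := by rw [h1]
        _ = nn p₂ * (y⁻¹ * c * y) := by rw [← hnn₂]; group

/-- `q = 2`, natural: `[V_P, S]` has order 2 -/
theorem nat_two {P : Subgroup G} (hP : IsParS (S : Subgroup G) P) {F : Type} [Field F] [Finite F] [CharP F 2]
    (M : FFThm.NatK F (S : Subgroup G) P (zl (S : Subgroup G) P) (cv (S : Subgroup G) P) 1) (hF : Nat.card F = 2) :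
    ∃ r ∈ zc (S : Subgroup G), ∀ s ∈ (S : Subgroup G), ∀ w ∈ zl (S : Subgroup G) P,
      s * w * s⁻¹ = w ∨ s * w * s⁻¹ = r * w := by
  obtain ⟨K, N, s⟩ := MixOne.exists_spl hG hP M.natOver (HOne.splitPar_of_two hG S hP M.natOver hF)
  have hcard : Nat.card (HOne.Main.vx (S : Subgroup G) P) = 4 := by
    rw [N.card_V, hF]
    norm_num
  have hle := HOne.cv_le_zc hG S hP M.natOver (HOne.splitPar_of_two hG S hP M.natOver hF)
  have hZ := F4Leaf.NatStep.card_zc hG hP M hF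
  -- `r ∈ Ω₁Z(S) ∩ N`
  obtain ⟨r, hrN, hr1, hrz⟩ : ∃ r ∈ HOne.Main.vx (S : Subgroup G) P, r ≠ 1 ∧ r ∈ zc (S : Subgroup G) := by
    by_contra hcon
    push Not at hcon
    have h1 : zc (S : Subgroup G) ≤ cv (S : Subgroup G) P := by
      intro z hz
      obtain ⟨n, hn, d, hd, rfl⟩ := s.dec z (zc_le_zl _ _ hz)
      have h2 : n ∈ zc (S : Subgroup G) := by
        have := mul_mem hz (inv_mem (hle hd))
        rwa [mul_inv_cancel_right] at this
      have h3 : n = 1 := by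
        by_contra hn1
        exact hcon n hn hn1 h2
      rw [h3, one_mul]
      exact hd
    have h2 : Nat.card (zc (S : Subgroup G)) ≤ Nat.card (cv (S : Subgroup G) P) := card_le_of_le h1
    have h3 : 0 < Nat.card (cv (S : Subgroup G) P) := Nat.card_pos
    omega
  have hN4 : ∀ a ∈ HOne.Main.vx (S : Subgroup G) P, ∀ b ∈ HOne.Main.vx (S : Subgroup G) P, a ≠ 1 → b ≠ 1 → a ≠ r →
      b ≠ r → a = b ∨ a = r * b := by
    intro a ha b hb ha1 hb1 har hbr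
    by_contra hcon
    push Not at hcon
    obtain ⟨h1, h2⟩ := hcon
    have hbb : b * b = 1 := by
      have := zl_sq hP.le S.isPGroup' (not_dvd_relIndex S hP.le) (hP.isLoc.char2 S hG) b (s.NV hb)
      rwa [pow_two] at this
    have h3 : Nat.card (Fin 5) ≤ Nat.card (HOne.Main.vx (S : Subgroup G) P) := by
      refine Nat.card_le_card_of_injective
        (![1, ⟨r, hrN⟩, ⟨b, hb⟩, ⟨r * b, mul_mem hrN hb⟩, ⟨a, ha⟩] : Fin 5 → HOne.Main.vx (S : Subgroup G) P) ?_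
      have k1 : r * b ≠ 1 := fun e => hbr (by
        calc b = r⁻¹ * (r * b) := by group
          _ = r⁻¹ := by rw [e, mul_one]
          _ = r := by
            have := (mem_zc.1 hrz).2.2
            rw [pow_two] at this
            exact inv_eq_of_mul_eq_one_left this)
      have k2 : r * b ≠ r := fun e => hb1 (mul_eq_left.1 e)
      have k3 : r * b ≠ b := fun e => hr1 (mul_eq_right.1 e)
      intro u v huv
      fin_cases u <;> fin_cases v <;> first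
        | rfl
        | (exfalso
           simp only [Fin.mk_zero, Fin.mk_one, Fin.reduceFinMk, Fin.isValue, Matrix.cons_val_zero, Matrix.cons_val_one,
             Matrix.cons_val, Subtype.ext_iff, Subgroup.coe_one] at huv
           first
             | exact hr1 huv | exact hr1 huv.symm | exact hb1 huv | exact hb1 huv.symm | exact ha1 huv
             | exact ha1 huv.symm | exact hbr huv | exact hbr huv.symm | exact har huv | exact har huv.symm
             | exact k1 huv | exact k1 huv.symm | exact k2 huv | exact k2 huv.symm | exact k3 huv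
             | exact k3 huv.symm | exact h1 huv | exact h1 huv.symm | exact h2 huv | exact h2 huv.symm)
    rw [Nat.card_fin, hcard] at h3
    omega
  refine ⟨r, hrz, fun x hx w hw => ?_⟩
  have hxr : x * r * x⁻¹ = r := comm_iff.2 ((mem_zc.1 hrz).2.1 x hx)
  obtain ⟨n, hn, d, hd, rfl⟩ := s.dec w hw
  have hxd : x * d * x⁻¹ = d := comm_iff.2 ((mem_zc.1 (hle hd)).2.1 x hx)
  have hxn : x * n * x⁻¹ ∈ HOne.Main.vx (S : Subgroup G) P :=
    (mem_normalizer_iff.1 (N.le (s.PK (hP.le hx))) n).1 hn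
  have key : x * n * x⁻¹ = n ∨ x * n * x⁻¹ = r * n := by
    by_cases hn1 : n = 1
    · left; rw [hn1]; group
    by_cases hnr : n = r
    · left; rw [hnr, hxr]
    refine hN4 _ hxn _ hn (fun e => hn1 ?_) hn1 (fun e => hnr ?_) hnr
    · exact conj_inj (g := x) (by rw [e]; group)
    · exact conj_inj (g := x) (by rw [e, hxr])
  rcases key with h1 | h1
  · left; rw [cm, hxd, h1]
  · right; rw [cm, hxd, h1, mul_assoc]

/-- **A natural partner.** -/
theorem nat_side {P₁ P₂ : Subgroup G} {y : G} {A : Subgroup G} {ε : (Fin (2 ^ 2 + 1) → ZMod 2) → G}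
    (hl : LabZ S P₁ P₂ y 2 A ε) (hN : FrameMulti.IsNat (S : Subgroup G) P₂ 1) :
    ∃ p e, NatSide (S : Subgroup G) P₁ P₂ y p e := by
  obtain ⟨F, i1, i2, i3, ⟨M⟩⟩ := hN
  have hF := F4Leaf.NatStep.card_F hG (by norm_num) hl M
  have hev := hl.split.even
  have hP₁ := hl.pair.star₁
  have hP₂ := hl.pair.star₂
  obtain ⟨r, hr, hrw⟩ := nat_two hG hP₂ M hF
  obtain ⟨b, hb, i, j, hij, hbs⟩ := S5.Nat.exists_swap hev hl.side (not_le_cent hG hl)
  obtain ⟨ρ, hρ0, hρ1, sv⟩ := Std.exists_sv hG S hl.split hP₁ hij (hl.le hb) hbs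
  obtain ⟨p, hp⟩ : ∃ p : Fin 5 → G, p = fun k => ε (Pi.single (M := fun _ : Fin (2 ^ 2 + 1) => ZMod 2) (ρ k) 1) :=
    ⟨_, rfl⟩
  rw [← hp] at sv
  have hp0 : p 0 = ε (Pi.single i 1) := by rw [hp, ← hρ0]
  have hp1 : p 1 = ε (Pi.single j 1) := by rw [hp, ← hρ1]
  have e0 := hbs.single i
  have e1 := hbs.single j
  rw [Equiv.swap_apply_left, ← hp0, ← hp1] at e0
  rw [Equiv.swap_apply_right, ← hp0, ← hp1] at e1
  -- `S^y` acts on `W`
  have hact : ∀ q ∈ cj y (S : Subgroup G), ∀ w ∈ cj y (zl (S : Subgroup G) P₂),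
      q * w * q⁻¹ = w ∨ q * w * q⁻¹ = (y * r * y⁻¹) * w := by
    intro q hq w hw
    rcases hrw _ (mem_cj.1 hq) _ (mem_cj.1 hw) with h1 | h1
    · left
      calc q * w * q⁻¹ = y * (y⁻¹ * q * y * (y⁻¹ * w * y) * (y⁻¹ * q * y)⁻¹) * y⁻¹ := by group
        _ = w := by rw [h1]; group
    · right
      calc q * w * q⁻¹ = y * (y⁻¹ * q * y * (y⁻¹ * w * y) * (y⁻¹ * q * y)⁻¹) * y⁻¹ := by group
        _ = (y * r * y⁻¹) * w := by rw [h1]; group
  -- `n = r^y`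
  have hne : nn p ≠ 1 := sv.n_ne_one
  have hnr : nn p = y * r * y⁻¹ := by
    have h0 : p 0 ∈ zl (S : Subgroup G) P₁ := sv.pV 0
    have h2 : p 0 * b * (p 0)⁻¹ * b⁻¹ = nn p := by
      rw [sv.pinv, nn]
      calc p 0 * b * p 0 * b⁻¹ = p 0 * (b * p 0 * b⁻¹) := by group
        _ = p 0 * p 1 := by rw [e0]
    rcases hact _ (hl.ge h0) b hb with h1 | h1
    · rw [h1, mul_inv_cancel] at h2
      exact absurd h2.symm hne
    · rw [h1, mul_inv_cancel_right] at h2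
      exact h2.symm
  have hSn : ∀ q ∈ cj y (S : Subgroup G), q * nn p * q⁻¹ = nn p := by
    intro q hq
    have h1 : (y⁻¹ * q * y) * r * (y⁻¹ * q * y)⁻¹ = r := comm_iff.2 ((mem_zc.1 hr).2.1 _ (mem_cj.1 hq))
    rw [hnr]
    calc q * (y * r * y⁻¹) * q⁻¹ = y * ((y⁻¹ * q * y) * r * (y⁻¹ * q * y)⁻¹) * y⁻¹ := by group
      _ = y * r * y⁻¹ := by rw [h1]
  have hNC : NCen p := by
    refine ⟨y • S, fun x hx => ?_⟩
    rw [mem_smul] at hx
    exact mem_cent.2 (hSn x (mem_cj.2 hx))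
  have hQS : ∀ q ∈ o2 (centralizer ({nn p} : Set G)), q ∈ cj y (S : Subgroup G) := by
    intro q hq
    have h1 : ((y • S : Sylow 2 G) : Subgroup G) ≤ centralizer ({nn p} : Set G) := by
      intro x hx
      rw [mem_smul] at hx
      exact mem_cent.2 (hSn x (mem_cj.2 hx))
    have h2 := o2_le_of_sylow (y • S : Sylow 2 G).isPGroup' (not_dvd_relIndex (y • S : Sylow 2 G) h1) hq
    rw [mem_cj]
    exact mem_smul.1 h2
  have hQW : ∀ q ∈ o2 (centralizer ({nn p} : Set G)), ∀ w ∈ cj y (zl (S : Subgroup G) P₂),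
      q * w * q⁻¹ = w ∨ q * w * q⁻¹ = nn p * w := by
    intro q hq w hw
    rw [hnr]
    exact hact q (hQS q hq) w hw
  have hnW : nn p ∈ cj y (zl (S : Subgroup G) P₂) := by
    rw [mem_cj, hnr]
    have e : y⁻¹ * (y * r * y⁻¹) * y = r := by group
    rw [e]
    exact zc_le_zl _ _ hr
  refine ⟨p, b, sv, hNC, el_of hG sv e0 e1 fun q hq => hQW q hq b hb, hb, hnW, ?_, hQW⟩
  intro w hw
  have hwS : w ∈ cj y (S : Subgroup G) := by
    rw [mem_cj] at hw ⊢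
    exact ((hP₂.isLoc.zl_le S hG).trans (zc_le _)).trans (hP₂.isLoc.o2_le S) hw
  refine le_o2_of_comm hG (by rw [sq]; exact sv.nsq) hne (comm_iff.1 (hSn w hwS)) fun q hq => ?_
  rcases hQW q hq w hw with h1 | h1
  · left
    rw [comm_iff] at h1
    calc w * q * w⁻¹ * q⁻¹ = (q * w) * w⁻¹ * q⁻¹ := by rw [h1]
      _ = 1 := by group
  · right
    have h2 : q * w = nn p * w * q := by rw [← h1]; group
    calc w * q * w⁻¹ * q⁻¹ = nn p * nn p * w * q * w⁻¹ * q⁻¹ := by rw [sv.nsq, one_mul]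
      _ = nn p * (nn p * w * q) * w⁻¹ * q⁻¹ := by group
      _ = nn p * (q * w) * w⁻¹ * q⁻¹ := by rw [h2]
      _ = nn p := by group

end Cfsg.Agent.Omega.F4Leaf.Cen.Entry
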