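import Cfsg.Agent.Omega.F4Leaf.Cen.Main
import Cfsg.Agent.Omega.F4Leaf.Asm
import Cfsg.Agent.Omega.F4Leaf.OT.Done

/-!
# LeafF4 from `PosExit` (II.0h1, `q = 2`) and (H2) for the members of degree `≥ 9`
-/

set_option autoImplicit false

namespace Cfsg.Agent.Omega.F4Leaf.Cen.Leaf

open Cfsg Cfsg.Agent.Omega.MinPar Cfsg.Agent.Omega.Frame Cfsg.Agent.Omega.FrameMulti

universe u

/-- **LeafF4 from `PosExit` and `MemH2`.** -/
theorem leaf {K : Cls.{u}} (hX : Cen.Main.PosExit.{u}) (h : Two.MemH2 K) : LeafF4 K :=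
  (⟨OT.Done.o1, Cen.Main.f4Cen hX, Cen.Main.f4Nat hX, h⟩ : Asm.Open K).leaf

end Cfsg.Agent.Omega.F4Leaf.Cen.Leaf
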