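import Cfsg.Agent.Omega.HOne.NormH
import Cfsg.Agent.Omega.MixOne.Frame2
import Cfsg.Agent.Omega.HTwo.Entry
import Cfsg.Agent.Omega.F4Leaf.Split
import Cfsg.Agent.Omega.F4Leaf.NatStep

/-!
# LeafF4 (#18108), part C: non-free mutual pairs with `|V_P| = 2 |Ω₁(Z(S))|` lead to the position `HTwo.Entry.Pos`

* `exists_natOver` : a member of a mutual pair with `|V_P| = 2 |Z|` has one natural factor with `q = 2`;
* `exists_same` : a non-free mutual pair `P, P` with `q = 2` and `|V_P|` minimal has the normal form `Same`;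
* `mixed_false` : a non-free mutual pair `P₁, P₂` with `q = 2` without a non-free pair `P₁, P₁` or `P₂, P₂` does
  not exist;
* `exists_pos` : the position `Pos`.
-/

set_option autoImplicit false
set_option linter.unusedSectionVars false

namespace Cfsg.Agent.Omega.F4Leaf.Cen.NN

open Subgroup Cfsg Cfsg.Agent.ZN Cfsg.Agent.Omega.MinPar
open Cfsg.Agent.Omega.Frame Cfsg.Agent.Omega.FFThm Cfsg.Agent.Omega.FrameFF
open Cfsg.Agent.Omega.FrameMulti (IsSym IsNat Typed AllTyped NoWr)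
open Cfsg.Agent.Omega.NatPair (NatMod ap ap_zero' ap_one')
open Cfsg.Agent.Omega.HOne.Main (vx SplitPar NonFree Same)
open Cfsg.Agent.Lib.SL2Mat
open Cfsg.Agent.Omega.BTwo (cj)
open scoped Pointwise commutatorElement

universe u

variable {G : Type u} [Group G] [Finite G] {S : Sylow 2 G}

/-! ### Orders -/

/-- `|Z| ≤ q |D|` for a natural module -/
theorem card_zc_le {F : Type} [Field F] [Finite F] {P : Subgroup G}
    (M : NatK F (S : Subgroup G) P (zl (S : Subgroup G) P) (cv (S : Subgroup G) P) 1) :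
    Nat.card (zc (S : Subgroup G)) ≤ Nat.card F * Nat.card (cv (S : Subgroup G) P) := by
  have hZV : zc (S : Subgroup G) ≤ zl (S : Subgroup G) P := MinSimple.VModule.zc_le_zl _ _
  have hz1 : ∀ z ∈ zc (S : Subgroup G), M.e z 0 1 = 0 := by
    intro z hz
    obtain ⟨t, ht, h1, -⟩ := M.unip fun _ => 1
    have h2 := h1 z (hZV hz) 0
    rw [(MinSimple.VModule.mem_zc.1 hz).2.1 t ht, mul_inv_cancel_right] at h2
    have h3 := congrFun h2 0
    rw [ap_zero'] at h3
    simp at h3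
    exact h3
  let φ : zc (S : Subgroup G) →* Multiplicative F :=
    { toFun := fun v => Multiplicative.ofAdd (M.e (v : G) 0 0)
      map_one' := by
        have := S5.Nat.e_one M
        change Multiplicative.ofAdd (M.e 1 0 0) = 1
        rw [this]
        rfl
      map_mul' := fun v w => by
        have := M.mul v (hZV v.2) w (hZV w.2)
        change Multiplicative.ofAdd (M.e ((v : G) * w) 0 0) = _
        rw [this]
        rfl }
  have h1 := φ.ker.card_mul_index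
  rw [Subgroup.index_ker] at h1
  have h2 : Nat.card φ.range ≤ Nat.card F := by
    exact (Finite.card_subtype_le _)
  have h3 : Nat.card φ.ker ≤ Nat.card (cv (S : Subgroup G) P) := by
    refine Nat.card_le_card_of_injective (fun x : φ.ker => (⟨(x : G), ?_⟩ : cv (S : Subgroup G) P)) ?_
    · rw [← M.ker _ (hZV x.1.2)]
      funext i j
      rw [Subsingleton.elim i 0]
      fin_cases j
      · exact x.2
      · exact hz1 _ x.1.2
    · intro x y hxy
      exact Subtype.ext (Subtype.ext (congrArg (fun t : cv (S : Subgroup G) P => (t : G)) hxy))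
  calc Nat.card (zc (S : Subgroup G)) = Nat.card φ.ker * Nat.card φ.range := h1.symm
    _ ≤ Nat.card (cv (S : Subgroup G) P) * Nat.card F := Nat.mul_le_mul h3 h2
    _ = _ := mul_comm _ _

/-- `|V| = 2^(2^m) |D|` for a module of type `S_{2^m+1}` -/
theorem card_sym {T H V D : Subgroup G} {m : ℕ} (h : SymK T H V D 1 m) (hD : D ≤ V) :
    2 ^ 2 ^ m * Nat.card D ≤ Nat.card V := by
  let φ : V →* Multiplicative (Fin (2 ^ m + 1) → ZMod 2) :=
    { toFun := fun v => Multiplicative.ofAdd (h.e (v : G) 0)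
      map_one' := by
        have h1 := h.mul 1 (one_mem _) 1 (one_mem _)
        rw [mul_one] at h1
        have h2 : h.e 1 = 0 := by simpa using h1
        change Multiplicative.ofAdd (h.e 1 0) = 1
        rw [h2]
        rfl
      map_mul' := fun v w => by
        have := h.mul v v.2 w w.2
        change Multiplicative.ofAdd (h.e ((v : G) * w) 0) = _
        rw [this]
        rfl }
  have h1 := φ.ker.card_mul_index
  rw [Subgroup.index_ker] at h1
  have h2 : 2 ^ 2 ^ m ≤ Nat.card φ.range := by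
    have h3 : Nat.card (Fin (2 ^ m) → ZMod 2) = 2 ^ 2 ^ m := by simp
    rw [← h3]
    have key : ∀ y : Fin (2 ^ m) → ZMod 2, ∃ v : V, φ v = Multiplicative.ofAdd (Fin.cons (∑ x, y x) y : Fin (2 ^ m + 1) → ZMod 2) := by
      intro y
      obtain ⟨v, hv, h4⟩ := h.surj (fun _ => (Fin.cons (∑ x, y x) y : Fin (2 ^ m + 1) → ZMod 2)) (by
        intro i
        rw [Fin.sum_univ_succ]
        simp only [Fin.cons_zero, Fin.cons_succ]
        exact CharTwo.add_self_eq_zero _)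
      refine ⟨⟨v, hv⟩, ?_⟩
      change Multiplicative.ofAdd (h.e v 0) = _
      rw [h4]
    choose f hf using key
    refine Nat.card_le_card_of_injective (fun y => (⟨φ (f y), ⟨_, rfl⟩⟩ : φ.range)) ?_
    intro y y' hyy
    have h4 : φ (f y) = φ (f y') := congrArg Subtype.val hyy
    rw [hf, hf] at h4
    have h5 : (Fin.cons (∑ x, y x) y : Fin (2 ^ m + 1) → ZMod 2) = Fin.cons (∑ x, y' x) y' := h4
    funext i
    have h6 := congrFun h5 i.succ
    simpa using h6
  have h3 : Nat.card D ≤ Nat.card φ.ker := by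
    refine Nat.card_le_card_of_injective (fun x : D => (⟨⟨(x : G), hD x.2⟩, ?_⟩ : φ.ker)) ?_
    · change Multiplicative.ofAdd (h.e (x : G) 0) = 1
      rw [(h.ker _ (hD x.2)).2 x.2]
      rfl
    · intro x y hxy
      exact Subtype.ext (congrArg (fun t : φ.ker => ((t : V) : G)) hxy)
  calc 2 ^ 2 ^ m * Nat.card D ≤ Nat.card φ.range * Nat.card φ.ker := Nat.mul_le_mul h2 h3
    _ = Nat.card V := by rw [mul_comm]; exact h1

/-- **(1)** a member of a mutual pair with `|V_P| = 2 |Z|` has one natural factor and `q = 2` -/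
theorem exists_natOver (hG : IsCharacteristicTwoType G) (hT : AllTyped (S : Subgroup G)) (hW : NoWr (S : Subgroup G))
    {P₁ P₂ : Subgroup G} {x : G} (hm : Mutual (S : Subgroup G) P₁ P₂ x)
    (c : Nat.card (zl (S : Subgroup G) P₁) = 2 * Nat.card (zc (S : Subgroup G))) :
    ∃ (F : Type) (_ : Field F) (_ : Finite F) (_ : CharP F 2), Nat.card F = 2 ∧
      Nonempty (NatOver F P₁ (zl (S : Subgroup G) P₁) (cv (S : Subgroup G) P₁)) := by
  have hpos : 0 < Nat.card (cv (S : Subgroup G) P₁) := Nat.card_pos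
  rcases hW.cases hT hm with ⟨F, i1, i2, i3, ⟨M⟩⟩ | ⟨m, hm2, ⟨M⟩⟩
  · refine ⟨F, i1, i2, i3, ?_, ⟨M.natOver⟩⟩
    have h1 := F4Leaf.NatStep.card_eq M inf_le_left
    have h2 := card_zc_le M
    have h3 : 2 ≤ Nat.card F := Finite.one_lt_card
    have h4 : Nat.card F ^ 2 * Nat.card (cv (S : Subgroup G) P₁) ≤
        2 * (Nat.card F * Nat.card (cv (S : Subgroup G) P₁)) := by
      rw [← h1, c]
      exact Nat.mul_le_mul_left _ h2
    have h5 : Nat.card F * (Nat.card F * Nat.card (cv (S : Subgroup G) P₁)) ≤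
        2 * (Nat.card F * Nat.card (cv (S : Subgroup G) P₁)) := by
      calc _ = Nat.card F ^ 2 * Nat.card (cv (S : Subgroup G) P₁) := by ring
        _ ≤ _ := h4
    have h6 := Nat.le_of_mul_le_mul_right h5 (Nat.mul_pos (by omega) hpos)
    omega
  · exfalso
    obtain ⟨A, ε, h⟩ := F4Leaf.Split.exists_split hG hm.star₁ (by omega) M
    have h1 := h.card_zc hG hm.star₁ (by omega)
    have h2 := card_sym M inf_le_left
    rw [c, h1] at h2
    have h3 : 2 ^ 2 ^ m * Nat.card (cv (S : Subgroup G) P₁) ≤ 4 * Nat.card (cv (S : Subgroup G) P₁) := by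
      calc _ ≤ 2 * (2 * Nat.card (cv (S : Subgroup G) P₁)) := h2
        _ = _ := by ring
    have h4 := Nat.le_of_mul_le_mul_right h3 hpos
    have h5 : 4 ≤ 2 ^ m := by
      calc 4 = 2 ^ 2 := by norm_num
        _ ≤ 2 ^ m := Nat.pow_le_pow_right (by norm_num) hm2
    have h6 : 2 ^ 4 ≤ 2 ^ 2 ^ m := Nat.pow_le_pow_right (by norm_num) h5
    norm_num at h6
    omega

/-- a member of a mutual pair has `|V_P| ≥ 2 |Z|` -/
theorem two_mul_le (hG : IsCharacteristicTwoType G) {P₁ P₂ : Subgroup G} {x : G}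
    (hm : Mutual (S : Subgroup G) P₁ P₂ x) :
    2 * Nat.card (zc (S : Subgroup G)) ≤ Nat.card (zl (S : Subgroup G) P₁) := by
  have hZV : zc (S : Subgroup G) ≤ zl (S : Subgroup G) P₁ := MinSimple.VModule.zc_le_zl _ _
  obtain ⟨c, hc⟩ := card_dvd_of_le hZV
  have hpos : 0 < Nat.card (zl (S : Subgroup G) P₁) := Nat.card_pos
  have h1 : c ≠ 0 := by
    rintro rfl
    omega
  have h2 : c ≠ 1 := by
    rintro rfl
    have h3 : zc (S : Subgroup G) = zl (S : Subgroup G) P₁ :=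
      Subgroup.eq_of_le_of_card_ge hZV (by omega)
    obtain ⟨y, hy1, -, v, hv, w, hw, hvw⟩ := MixOne.exists_move S hG hm
    rw [← h3] at hv
    exact hvw ((MinSimple.VModule.mem_zc.1 hv).2.1 w (hy1 hw)).symm
  rw [hc, mul_comm 2]
  exact Nat.mul_le_mul_left _ (by omega)

/-! ### The normal form -/

/-- **(3)** the normal form of a non-free pair `P, P` with `q = 2`, `|V_P|` minimal -/
theorem exists_same (hc : IsCharacteristicTwoType G) (S : Sylow 2 G) {P : Subgroup G} {g : G} {F : Type} [Field F]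
    [Finite F] [CharP F 2] (M : NatOver F P (zl (S : Subgroup G) P) (cv (S : Subgroup G) P))
    (hF : Nat.card F = 2) (hnf : NonFree (S : Subgroup G) P P g)
    (hmin : ∀ (P' : Subgroup G) (g' : G), NonFree (S : Subgroup G) P' P' g' →
      Nat.card (zl (S : Subgroup G) P) ≤ Nat.card (zl (S : Subgroup G) P')) :
    ∃ (y : G) (N : Subgroup G) (M' : NatMod F N), Same (S : Subgroup G) P y M' := by
  have h : IsParS (S : Subgroup G) P := hnf.mp.star₁
  have hsp : SplitPar (S : Subgroup G) P := HOne.splitPar_of_two hc S h M hF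
  obtain ⟨y, hy1, hy2, v, hv, w, hw, hvw⟩ := MixOne.exists_move S hc hnf.mp
  obtain ⟨K₁, M₁, s₁⟩ := MixOne.exists_spl hc h M hsp
  have s₂ := s₁.conj y
  have hSP : (S : Subgroup G) ≤ P := h.le
  have hSP' : ((y • S : Sylow 2 G) : Subgroup G) ≤ cj y P := by
    rw [Mix.coe_smul_eq]; exact BTwo.cj_mono hSP
  -- `N`, `N^y` do not commute
  obtain ⟨n, hn, d, hd, rfl⟩ := s₁.dec v hv
  obtain ⟨n', hn', d', hd', rfl⟩ := s₂.dec w hw
  have c1 : ∀ z ∈ cj y (zl (S : Subgroup G) P), ∀ d ∈ cv (S : Subgroup G) P, d * z = z * d := fun z hz d hd =>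
    mem_centralizer_iff.1 (s₁.cen (hSP (hy1 hz))) d hd
  have c2 : ∀ z ∈ zl (S : Subgroup G) P, ∀ d ∈ cj y (cv (S : Subgroup G) P), d * z = z * d := fun z hz d hd => by
    refine mem_centralizer_iff.1 (s₂.cen (hSP' ?_)) d hd
    rw [Mix.coe_smul_eq]; exact hy2 hz
  have hnn : n * n' ≠ n' * n := by
    intro h
    apply hvw
    have e1 := c1 _ hw d hd
    have e2 := c2 n (s₁.NV hn) d' hd'
    calc n * d * (n' * d') = n * (d * (n' * d')) := by group
      _ = n * (n' * d' * d) := by rw [e1]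
      _ = n * n' * d' * d := by group
      _ = n' * (n * d') * d := by rw [h]; group
      _ = n' * (d' * n) * d := by rw [e2]
      _ = n' * d' * (n * d) := by group
  have hn'' : n' ∈ cj y (vx (S : Subgroup G) P) := hn'
  rcases (HOne.preMod M hsp).dich S (hSP.trans (HOne.le_normalizer_vx _ _))
    (fun s hs' => HOne.nm_of_mem M hsp (hSP hs')) with hgood | hexc
  · refine ⟨y, vx (S : Subgroup G) P, (HOne.preMod M hsp).toNatMod hgood, ?_⟩
    have hmut : Mix.RMutual (vx (S : Subgroup G) P) (cj y (vx (S : Subgroup G) P)) K₁ (cj y K₁) :=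
      ⟨(s₂.NV.trans hy1).trans (hSP.trans s₁.PK), (s₁.NV.trans hy2).trans (by
        have := hSP'.trans s₂.PK
        rwa [Mix.coe_smul_eq] at this), n, hn, n', hn', hnn⟩
    obtain ⟨-, u, u', hu, -, hl, -⟩ := Mix.pair M₁ (M₁.conj y) hmut
    obtain ⟨T₁, hT₁P, hT₁R⟩ := s₁.exists_sylow S hSP hu.ne
    rw [← hl] at hT₁R
    have hR2 : IsPGroup 2 ↥(vx (S : Subgroup G) P ⊓ cj y (vx (S : Subgroup G) P)) :=
      s₁.N_pGroup.to_le inf_le_left
    have hR1 : vx (S : Subgroup G) P ⊓ cj y (vx (S : Subgroup G) P) ≠ ⊥ := by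
      have h1 := M₁.line_ne_bot hu.ne
      rw [← hl] at h1
      exact h1
    have hVQ := s₁.V_le_Q hT₁P hu.ne (R := vx (S : Subgroup G) P ⊓ cj y (vx (S : Subgroup G) P)) hl hT₁R
      (Mix.char2_normalizer hc hR2 hR1)
    exact
      { mp := ⟨h, h, by
          change _ ≤ normalizer (cj y _ : Set G)
          rw [BTwo.normalizer_cj]
          exact hy2.trans ((BTwo.cj_mono hSP).trans (BTwo.cj_mono (MinSimple.VModule.le_normalizer_zl _ _))),
          (hy1.trans hSP).trans (MinSimple.VModule.le_normalizer_zl _ _), by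
          intro h0
          have h1 := commutator_mem_commutator (s₁.NV hn)
            (show n' ∈ MulAut.conj y • zl (S : Subgroup G) P from s₂.NV hn')
          rw [h0, mem_bot, commutatorElement_eq_one_iff_mul_comm] at h1
          exact hnn h1⟩
        N_eq := rfl
        inf := hsp
        sup := HOne.sup_eq M
        ne := hnf.ne₁
        cen := HOne.le_centralizer_cv hc S h M hsp
        le := HOne.le_normalizer_vx _ _
        lift := HOne.rmod_lift M hsp
        pair := ⟨((s₂.NV.trans hy1).trans hSP).trans (HOne.le_normalizer_vx _ _), by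
          change _ ≤ normalizer (cj y _ : Set G)
          rw [BTwo.normalizer_cj]
          exact ((HOne.vx_le _ _).trans hy2).trans ((BTwo.cj_mono hSP).trans
            (BTwo.cj_mono (HOne.le_normalizer_vx _ _))),
          n, hn, n', hn', hnn⟩
        VQ := (HOne.vx_le _ _).trans hVQ
        min := hmin }
  · exfalso
    obtain ⟨w₀, r, E⟩ := HOne.excD_of S M hsp hexc
    have := E.card
    omega

/-! ### Mixed pairs -/

/-- the normal form of a non-free mutual pair `P₁, P₂` without non-free pairs `P₁, P₁` and `P₂, P₂` -/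
theorem exists_mixedW (hG : IsCharacteristicTwoType G) (S : Sylow 2 G) {P₁ P₂ : Subgroup G} {x : G}
    (hno₁ : ∀ g : G, ¬ NonFree (S : Subgroup G) P₁ P₁ g) (hno₂ : ∀ g : G, ¬ NonFree (S : Subgroup G) P₂ P₂ g)
    (h : NonFree (S : Subgroup G) P₁ P₂ x) (hs₁ : SplitPar (S : Subgroup G) P₁)
    (hs₂ : SplitPar (S : Subgroup G) P₂) {F₁ F₂ : Type} [Field F₁] [Finite F₁] [CharP F₁ 2] [Field F₂] [Finite F₂]
    [CharP F₂ 2] (o₁ : NatOver F₁ P₁ (zl (S : Subgroup G) P₁) (cv (S : Subgroup G) P₁))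
    (o₂ : NatOver F₂ P₂ (zl (S : Subgroup G) P₂) (cv (S : Subgroup G) P₂)) :
    ∃ (K₁ N₂ K₂ : Subgroup G) (M₁ : Mix.RMod F₁ (vx (S : Subgroup G) P₁) K₁) (M₂ : Mix.RMod F₂ N₂ K₂) (k : G)
      (R : Subgroup G) (T : Sylow 2 G), N₂ = BTwo.cj k (vx (S : Subgroup G) P₂) ∧
      MixOne.Spl P₁ (zl (S : Subgroup G) P₁) (cv (S : Subgroup G) P₁) M₁ ∧
      MixOne.Spl (BTwo.cj k P₂) (BTwo.cj k (zl (S : Subgroup G) P₂)) (BTwo.cj k (cv (S : Subgroup G) P₂)) M₂ ∧
      (T : Subgroup G) ≤ P₁ ∧ (T : Subgroup G) ≤ BTwo.cj k P₂ ∧ (T : Subgroup G) ≤ normalizer (R : Set G) ∧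
      MixOne.MixedW M₁ M₂ R := by
  obtain ⟨K₁, M₁, s₁⟩ := MixOne.exists_spl hG h.mp.star₁ o₁ hs₁
  obtain ⟨K₂, M₂, s₂⟩ := MixOne.exists_spl hG h.mp.star₂ o₂ hs₂
  obtain ⟨y, hy1, hy2, hy3⟩ := MixOne.exists_move S hG h.mp
  have hS₂ : ((y • S : Sylow 2 G) : Subgroup G) ≤ BTwo.cj y P₂ := by
    rw [Mix.coe_smul_eq]; exact BTwo.cj_mono h.mp.star₂.le
  have hn₁ := MixOne.noSame_of h.mp.star₁ h.ne₁ hno₁
  have hn₂ := (MixOne.noSame_of h.mp.star₂ h.ne₂ hno₂).conj y
  obtain ⟨k, -, T, hT1, hT2, hT3, m⟩ := s₁.mixedW (fun K h1 h2 => Mix.char2_normalizer hG h1 h2) (s₂.conj y) S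
    (y • S) h.mp.star₁.le hS₂ hy1 (by rw [Mix.coe_smul_eq]; exact hy2) hy3 hn₁ hn₂
  have e : ∀ X : Subgroup G, BTwo.cj k (BTwo.cj y X) = BTwo.cj (k * y) X := fun X => (BTwo.cj_mul k y X).symm
  have s₃ := (s₂.conj y).conj k
  rw [e P₂] at hT2
  rw [e P₂, e (zl (S : Subgroup G) P₂), e (cv (S : Subgroup G) P₂)] at s₃
  exact ⟨K₁, _, _, M₁, _, k * y, _, T, e _, s₁, s₃, hT1, hT2, hT3, m⟩

/-- **(4)** there is a non-free pair `P₁, P₁` or `P₂, P₂` -/
theorem mixed_false (hG : Ctx G) (S : Sylow 2 G) {P₁ P₂ : Subgroup G} {x : G}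
    (hno₁ : ∀ g : G, ¬ NonFree (S : Subgroup G) P₁ P₁ g) (hno₂ : ∀ g : G, ¬ NonFree (S : Subgroup G) P₂ P₂ g)
    (h : NonFree (S : Subgroup G) P₁ P₂ x) {F₁ F₂ : Type} [Field F₁] [Finite F₁] [CharP F₁ 2] [Field F₂] [Finite F₂]
    [CharP F₂ 2] (o₁ : NatOver F₁ P₁ (zl (S : Subgroup G) P₁) (cv (S : Subgroup G) P₁))
    (o₂ : NatOver F₂ P₂ (zl (S : Subgroup G) P₂) (cv (S : Subgroup G) P₂)) (c₁ : Nat.card F₁ = 2)
    (c₂ : Nat.card F₂ = 2) : False := by
  obtain ⟨K₁, N₂, K₂, M₁, M₂, k, R, T, -, s₁, s₂, hT1, hT2, hT3, m⟩ :=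
    exists_mixedW hG.char2 S hno₁ hno₂ h (HOne.splitPar_of_two hG.char2 S h.mp.star₁ o₁ c₁)
      (HOne.splitPar_of_two hG.char2 S h.mp.star₂ o₂ c₂) o₁ o₂
  obtain ⟨⟨d, hd⟩, hd1⟩ := Subgroup.ne_bot_iff_exists_ne_one.1 h.ne₁
  have hd1' : d ≠ 1 := fun h => hd1 (Subtype.ext h)
  have hp : Fact (Nat.Prime 2) := ⟨Nat.prime_two⟩
  have h32 : 16 < Nat.card T := by
    have e1 : (2 : ℕ) ^ 5 ∣ Nat.card G := Cfsg.Agent.Omega.Exits.dvd_card hG.rank
    have e2 : (2 : ℕ) ^ 5 ∣ Nat.card T := T.pow_dvd_card_of_pow_dvd_card e1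
    have e3 := Nat.le_of_dvd Nat.card_pos e2
    omega
  refine m.two_false c₁ (hT1.trans s₁.PK) (hT2.trans s₂.PK) hT3 (z := d) ?_ ?_ h32
  · intro h5
    apply hd1'
    have h6 : d ∈ vx (S : Subgroup G) P₁ ⊓ cv (S : Subgroup G) P₁ := ⟨m.RV h5, hd⟩
    rw [s₁.inf] at h6
    exact mem_bot.1 h6
  · intro t ht
    exact (mem_centralizer_iff.1 (s₁.cen (hT1 ht)) d hd).symm

/-! ### The position -/

/-- from a non-free pair `P, P` with `|V_P| = 2 |Z|` and `q = 2` -/
theorem exists_pos_same (hG : IsCharacteristicTwoType G) (S : Sylow 2 G) {P : Subgroup G} {g : G}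
    {F : Type} [Field F] [Finite F] [CharP F 2] (o : NatOver F P (zl (S : Subgroup G) P) (cv (S : Subgroup G) P))
    (hF : Nat.card F = 2) (h : NonFree (S : Subgroup G) P P g)
    (c : Nat.card (zl (S : Subgroup G) P) = 2 * Nat.card (zc (S : Subgroup G))) :
    ∃ (P V : Subgroup G) (ι : Type u) (R : ι → Subgroup G) (o : ι) (r z : G), HTwo.Entry.Pos S P V R o r z := by
  obtain ⟨y, N, M', hs⟩ := exists_same hG S o hF h fun P' g' h' => by
    rw [c]
    exact two_mul_le hG h'.mp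
  obtain ⟨o', r, z, hp⟩ := HTwo.Entry.exists_pos hG hs hF
  exact ⟨P, N, _, _, o', r, z, hp⟩

/-- **the position, first form** -/
theorem exists_pos_of (hG : Ctx G) (S : Sylow 2 G) {P₁ P₂ : Subgroup G} {x : G}
    (h : NonFree (S : Subgroup G) P₁ P₂ x) {F₁ F₂ : Type} [Field F₁] [Finite F₁] [CharP F₁ 2] [Field F₂] [Finite F₂]
    [CharP F₂ 2] (o₁ : NatOver F₁ P₁ (zl (S : Subgroup G) P₁) (cv (S : Subgroup G) P₁))
    (o₂ : NatOver F₂ P₂ (zl (S : Subgroup G) P₂) (cv (S : Subgroup G) P₂)) (hF₁ : Nat.card F₁ = 2)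
    (hF₂ : Nat.card F₂ = 2) (c₁ : Nat.card (zl (S : Subgroup G) P₁) = 2 * Nat.card (zc (S : Subgroup G)))
    (c₂ : Nat.card (zl (S : Subgroup G) P₂) = 2 * Nat.card (zc (S : Subgroup G))) :
    ∃ (P V : Subgroup G) (ι : Type u) (R : ι → Subgroup G) (o : ι) (r z : G), HTwo.Entry.Pos S P V R o r z := by
  by_cases h₁ : ∃ g, NonFree (S : Subgroup G) P₁ P₁ g
  · obtain ⟨g, hg⟩ := h₁
    exact exists_pos_same hG.char2 S o₁ hF₁ hg c₁
  by_cases h₂ : ∃ g, NonFree (S : Subgroup G) P₂ P₂ g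
  · obtain ⟨g, hg⟩ := h₂
    exact exists_pos_same hG.char2 S o₂ hF₂ hg c₂
  exact (mixed_false hG S (fun g hg => h₁ ⟨g, hg⟩) (fun g hg => h₂ ⟨g, hg⟩) h o₁ o₂ hF₁ hF₂).elim

/-- **the position** -/
theorem exists_pos (hG : Ctx G) (S : Sylow 2 G) (hT : AllTyped (S : Subgroup G)) (hW : NoWr (S : Subgroup G))
    {P₁ P₂ : Subgroup G} {x : G} (h : NonFree (S : Subgroup G) P₁ P₂ x)
    (c₁ : Nat.card (zl (S : Subgroup G) P₁) = 2 * Nat.card (zc (S : Subgroup G)))
    (c₂ : Nat.card (zl (S : Subgroup G) P₂) = 2 * Nat.card (zc (S : Subgroup G))) :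
    ∃ (P V : Subgroup G) (ι : Type u) (R : ι → Subgroup G) (o : ι) (r z : G), HTwo.Entry.Pos S P V R o r z := by
  obtain ⟨F₁, _, _, _, hF₁, ⟨o₁⟩⟩ := exists_natOver hG.char2 hT hW h.mp c₁
  obtain ⟨F₂, _, _, _, hF₂, ⟨o₂⟩⟩ := exists_natOver hG.char2 hT hW h.mp.symm c₂
  exact exists_pos_of hG S h o₁ o₂ hF₁ hF₂ c₁ c₂

end Cfsg.Agent.Omega.F4Leaf.Cen.NN
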