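import Cfsg.Agent.Omega.F4Leaf.Cen.V
import Cfsg.Agent.ZN.ChoiceBase

/-!
# LeafF4, `m = 2`, `n` 2-central (bb OMEGA #18108): the interface to the labelled positions

`NatSide` : natural partner; `TTSide` : both members of type `S₅`.
-/

set_option autoImplicit false

namespace Cfsg.Agent.Omega.F4Leaf.Cen

open Subgroup Cfsg
open Cfsg.Agent.ZN (zc zl o2)
open Cfsg.Agent.ZN.ChoiceBase (cj)
open Cfsg.Agent.Omega.FrameFF (cv)
open Cfsg.Agent.Omega.NTwo (nn aa)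
open Cfsg.Agent.Omega.F4Leaf.Cen.V (El)

universe u

variable {G : Type u} [Group G]

/-- The position with a natural partner `W = (V_{P₂})^y`. -/
structure NatSide (S P P₂ : Subgroup G) (y : G) (p : Fin 5 → G) (e : G) : Prop where
  sv : SV S P (cv S P) p
  ncen : NCen p
  el : El p e
  e_mem : e ∈ cj y (zl S P₂)
  n_mem : nn p ∈ cj y (zl S P₂)
  W_Q : cj y (zl S P₂) ≤ o2 (centralizer ({nn p} : Set G))
  Q_W : ∀ q ∈ o2 (centralizer ({nn p} : Set G)), ∀ w ∈ cj y (zl S P₂), q * w * q⁻¹ = w ∨ q * w * q⁻¹ = nn p * w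

/-- The position with two members of type `S₅`. -/
structure TTSide (S P P₂ : Subgroup G) (y : G) (p : Fin 5 → G) (e : G) (p₂ : Fin 5 → G) (e₂ : G) : Prop where
  sv : SV S P (cv S P) p
  ncen : NCen p
  el : El p e
  e_mem : e ∈ cj y (zl S P₂)
  sv₂ : SV S P₂ (cv S P₂) p₂
  ncen₂ : NCen p₂
  el₂ : El p₂ e₂
  e₂_mem : y * e₂ * y⁻¹ ∈ zl S P
  nn₂ : y * nn p₂ * y⁻¹ = nn p
  ne : e * (y * e₂ * y⁻¹) ≠ (y * e₂ * y⁻¹) * e

end Cfsg.Agent.Omega.F4Leaf.Cen
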