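import Cfsg.Agent.Omega.F4Leaf.Cen.Exit
import Cfsg.Agent.Omega.F4Leaf.Cen.Sides

/-!
# LeafF4, `m = 2`, `n` 2-central (bb OMEGA #18108): the mutual pairs of natural members from `NatSide`, `TTSide`

* `NatSide.exists_pair` : a natural member `R` over `S` with `|V_R| = 2 |Ω₁Z(S)|`, `C_{V_R}(O²(R)) ≠ 1` and a mutual pair
  `(R, P₂)`;
* `TTSide.exists_pair` : a mutual pair `(R, R₂)` of two such members.
-/

set_option autoImplicit false

namespace Cfsg.Agent.Omega.F4Leaf.Cen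

open Subgroup Pointwise Cfsg Cfsg.Agent.MinSimple.VModule
open Cfsg.Agent.ZN (zc zl o2)
open Cfsg.Agent.ZN.ChoiceBase (cj)
open Cfsg.Agent.Omega.MinPar (IsPar IsParS IsLoc)
open Cfsg.Agent.Omega.FrameFF (cv)
open Cfsg.Agent.Omega.HOne.Main (NonFree)
open Cfsg.Agent.Omega.NTwo (nn aa cm comm_iff mem_cent mem_csmul csmul_mem)
open scoped commutatorElement

universe u

variable {G : Type u} [Group G] [Finite G]

theorem cj_eq (y : G) (H : Subgroup G) : cj y H = MulAut.conj y • H := by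
  ext x
  rw [ZN.ChoiceBase.mem_cj, mem_csmul]

/-- natural partner -/
theorem NatSide.exists_pair (hG : IsCharacteristicTwoType G) (S : Sylow 2 G) {P P₂ : Subgroup G} {y : G} {p : Fin 5 → G}
    {e : G} (hP₂ : IsParS (S : Subgroup G) P₂) (h : NatSide (S : Subgroup G) P P₂ y p e) :
    ∃ (R : Subgroup G) (x : G), Mutual (S : Subgroup G) R P₂ x ∧
      Nat.card (zl (S : Subgroup G) R) = 2 * Nat.card (zc (S : Subgroup G)) ∧ cv (S : Subgroup G) R ≠ ⊥ := by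
  obtain ⟨r, v, w, o⟩ := V.exists_out hG S h.sv h.ncen h.el
  obtain ⟨R, k, E⟩ := o.exists_ex
  have hWQ := h.W_Q
  rw [cj_eq] at hWQ
  have hn : ∀ q ∈ o2 (centralizer {nn p}), y⁻¹ * q * y ∈ normalizer (zl (S : Subgroup G) P₂ : Set G) := by
    have key : ∀ q ∈ o2 (centralizer {nn p}), ∀ w ∈ zl (S : Subgroup G) P₂,
        (y⁻¹ * q * y) * w * (y⁻¹ * q * y)⁻¹ ∈ zl (S : Subgroup G) P₂ := by
      intro q hq w hw
      have h1 : y * w * y⁻¹ ∈ cj y (zl (S : Subgroup G) P₂) := by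
        rw [cj_eq]
        exact csmul_mem hw
      have h2 : q * (y * w * y⁻¹) * q⁻¹ ∈ cj y (zl (S : Subgroup G) P₂) := by
        rcases h.Q_W q hq _ h1 with h3 | h3
        · rw [h3]; exact h1
        · rw [h3]; exact mul_mem h.n_mem h1
      rw [ZN.ChoiceBase.mem_cj] at h2
      have h3 : y⁻¹ * (q * (y * w * y⁻¹) * q⁻¹) * y = (y⁻¹ * q * y) * w * (y⁻¹ * q * y)⁻¹ := by group
      rwa [h3] at h2
    intro q hq
    rw [mem_normalizer_iff]
    refine fun w => ⟨key q hq w, fun hw => ?_⟩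
    have h1 := key q⁻¹ (inv_mem hq) _ hw
    have h2 : y⁻¹ * q⁻¹ * y * (y⁻¹ * q * y * w * (y⁻¹ * q * y)⁻¹) * (y⁻¹ * q⁻¹ * y)⁻¹ = w := by group
    rwa [h2] at h1
  obtain ⟨h2, h3⟩ := E.conj_norm hWQ hn
  refine ⟨R, k⁻¹ * y, ⟨E.star, hP₂, h2, h3, fun h4 => ?_⟩, E.card, E.ne⟩
  rw [commutator_eq_bot_iff_le_centralizer] at h4
  have h5 : k⁻¹ * e * k ∈ MulAut.conj (k⁻¹ * y) • zl (S : Subgroup G) P₂ := by
    have h6 := h.e_mem
    rw [ZN.ChoiceBase.mem_cj] at h6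
    rw [mem_csmul]
    have h7 : (k⁻¹ * y)⁻¹ * (k⁻¹ * e * k) * (k⁻¹ * y) = y⁻¹ * e * y := by group
    rwa [h7]
  have h6 := mem_centralizer_iff.1 (h4 E.c_mem) _ h5
  have h7 : e * (p 0 * p 4) = p 0 * p 4 * e := by
    calc e * (p 0 * p 4) = k * (k⁻¹ * e * k * (k⁻¹ * (p 0 * p 4) * k)) * k⁻¹ := by group
      _ = k * (k⁻¹ * (p 0 * p 4) * k * (k⁻¹ * e * k)) * k⁻¹ := by rw [h6]
      _ = p 0 * p 4 * e := by group
  rw [← comm_iff, o.e_c] at h7
  exact h.sv.n_ne_one (mul_right_cancel (h7.trans (one_mul _).symm))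

/-- both members of type `S₅` -/
theorem TTSide.exists_pair (hG : IsCharacteristicTwoType G) (S : Sylow 2 G) {P P₂ : Subgroup G} {y : G} {p : Fin 5 → G}
    {e : G} {p₂ : Fin 5 → G} {e₂ : G} (h : TTSide (S : Subgroup G) P P₂ y p e p₂ e₂) :
    ∃ (R R₂ : Subgroup G) (x : G), NonFree (S : Subgroup G) R R₂ x ∧
      Nat.card (zl (S : Subgroup G) R) = 2 * Nat.card (zc (S : Subgroup G)) ∧
      Nat.card (zl (S : Subgroup G) R₂) = 2 * Nat.card (zc (S : Subgroup G)) := by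
  obtain ⟨r, v, w, o⟩ := V.exists_out hG S h.sv h.ncen h.el
  obtain ⟨R, k, E⟩ := o.exists_ex
  obtain ⟨r₂, v₂, w₂, o₂⟩ := V.exists_out hG S h.sv₂ h.ncen₂ h.el₂
  obtain ⟨R₂, k₂, E₂⟩ := o₂.exists_ex
  refine ⟨R, R₂, _, E.nonFree_tt E₂ h.nn₂ fun h4 => h.ne ?_, E.card, E₂.card⟩
  rw [commutator_eq_bot_iff_le_centralizer] at h4
  have h5 := h.e_mem
  rw [cj_eq] at h5
  exact mem_centralizer_iff.1 (h4 h.e₂_mem) _ h5

end Cfsg.Agent.Omega.F4Leaf.Cen
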