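import Cfsg.Agent.Omega.NTwo.Pos

/-!
# LeafF4, `m = 2`, `n` 2-central (bb OMEGA #16971 (0)): module theory of `S₅`

`M` an elementary abelian 2-group with an action of `Sym {0,..,4}`, `c : Fin 5 → M` the five points
(`c 0 + c 1 + c 2 + c 3 = c 4`), every vector fixed by the dihedral group `D8` (`01 | 23 | 4`) is fixed by `Sym` up to `c 4`.

* `Mo.stepK` : a vector fixed by `Sym {0,1} × Sym {2,3,4}` is fixed by `Sym` up to `c 0 + c 1`;
* `Mo.key` : a vector fixed by `⟨(0 1), (2 3)⟩` is fixed by `D8` up to `c 0 + c 1`.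
-/

set_option autoImplicit false

namespace Cfsg.Agent.Omega.F4Leaf.Cen.Mod

open Equiv
open Cfsg.Agent.Omega.NTwo (D8)

/-- `{0, 1}` is preserved -/
def Qs (σ : Perm (Fin 5)) : Prop := (σ 0 = 0 ∧ σ 1 = 1) ∨ (σ 0 = 1 ∧ σ 1 = 0)

instance (σ : Perm (Fin 5)) : Decidable (Qs σ) := inferInstanceAs (Decidable (_ ∨ _))

/-- `{0, 1}`, `{2, 3}`, `{4}` are preserved -/
def Rs (σ : Perm (Fin 5)) : Prop := Qs σ ∧ σ 4 = 4

instance (σ : Perm (Fin 5)) : Decidable (Rs σ) := inferInstanceAs (Decidable (_ ∧ _))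

/-- `i ↦ i + 2` -/
def ζ : Perm (Fin 5) := ⟨![2, 3, 4, 0, 1], ![3, 4, 0, 1, 2], by decide, by decide⟩

/-- `2 → 3 → 4 → 2` -/
def τ : Perm (Fin 5) := ⟨![0, 1, 3, 4, 2], ![0, 1, 4, 2, 3], by decide, by decide⟩

/-- `(0 2)(1 3)` -/
def χ : Perm (Fin 5) := ⟨![2, 3, 0, 1, 4], ![2, 3, 0, 1, 4], by decide, by decide⟩

/-- `(1 2)` -/
def κ : Perm (Fin 5) := ⟨![0, 2, 1, 3, 4], ![0, 2, 1, 3, 4], by decide, by decide⟩

theorem ζ5 : ζ ^ 5 = 1 := by decide +kernel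

theorem d_ζ : ∀ d ∈ D8, (Qs d ∧ Qs (ζ⁻¹ * d * ζ)) ∨ (Qs (ζ⁻¹ * d) ∧ Qs (d * ζ)) := by decide +kernel

theorem d_χ : ∀ d ∈ D8, (Rs d ∧ Rs (χ⁻¹ * d * χ)) ∨ (Rs (χ⁻¹ * d) ∧ Rs (d * χ)) := by decide +kernel

/-- the three Sylow-conjugating permutations -/
def al : Fin 4 → Perm (Fin 5) := ![1, swap 2 3, swap 2 4, swap 3 4]

theorem al_Qs : ∀ i, Qs (al i) := by decide +kernel

theorem gen : ∀ σ : Perm (Fin 5), ∃ i : Fin 4, ∃ k : Fin 5, Qs ((al i * ζ ^ (k : ℕ))⁻¹ * σ) := by decide +kernel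

theorem perm3 : ∀ σ : Perm (Fin 5), Qs σ → ∃ j : Perm (Fin 3), ∀ i : Fin 3,
    Rs ((τ ^ ((j i : Fin 3) : ℕ))⁻¹ * σ * τ ^ (i : ℕ)) := by decide +kernel

theorem rel1 : Rs ((τ * χ)⁻¹ * ζ ^ 4) := by decide +kernel
theorem rel2 : Rs ((κ * τ ^ 2 * χ)⁻¹ * (ζ ^ 2 * κ)) := by decide +kernel
theorem rel3 : Rs ((κ * τ * χ)⁻¹ * (ζ ^ 4 * τ ^ 2)) := by decide +kernel

section

variable {M : Type*} [AddCommGroup M] [DistribMulAction (Perm (Fin 5)) M]

/-- the module -/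
structure Mo (c : Fin 5 → M) : Prop where
  two : ∀ y : M, y + y = 0
  act : ∀ (σ : Perm (Fin 5)) (i : Fin 5), σ • c i = c (σ i)
  sum : c 0 + c 1 + (c 2 + c 3) = c 4
  fixed : ∀ y : M, (∀ d ∈ D8, d • y = y) →
    (∀ σ : Perm (Fin 5), σ • y = y) ∨ ∀ σ : Perm (Fin 5), σ • (y + c 4) = y + c 4

theorem smul_eq {P : Perm (Fin 5) → Prop} {b : M} (hb : ∀ σ, P σ → σ • b = b) {g k : Perm (Fin 5)}
    (h : P (k⁻¹ * g)) : g • b = k • b := by
  have h1 := hb _ h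
  rw [mul_smul, inv_smul_eq_iff] at h1
  exact h1

/-- the norm of `⟨ζ⟩` -/
def N (m : M) : M := m + ζ • m + ζ ^ 2 • m + ζ ^ 3 • m + ζ ^ 4 • m

theorem N_add (m m' : M) : N (m + m') = N m + N m' := by
  simp only [N, smul_add]
  abel

theorem N_ζ (m : M) : N (ζ • m) = N m := by
  simp only [N]
  rw [smul_smul, smul_smul, smul_smul, smul_smul, ← pow_succ, ← pow_succ, ← pow_succ, ← pow_two, ζ5, one_smul]
  abel

theorem N_pow (k : ℕ) (m : M) : N (ζ ^ k • m) = N m := by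
  induction k with
  | zero => rw [pow_zero, one_smul]
  | succ k ih => rw [pow_succ', mul_smul, N_ζ, ih]

namespace Mo

variable {c : Fin 5 → M} (h : Mo c)
include h

theorem N_fix {r : M} (hr : ∀ σ : Perm (Fin 5), σ • r = r) : N r = r := by
  simp only [N, hr]
  rw [h.two, zero_add, h.two, zero_add]

theorem five {r : M} (hr : ∀ σ : Perm (Fin 5), σ • (r + ζ • r) = r + ζ • r) : ζ • r = r := by
  have h1 := h.N_fix hr
  rw [N_add, N_ζ, h.two] at h1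
  have h2 := h.two r
  calc ζ • r = (r + r) + ζ • r := by rw [h2, zero_add]
    _ = r + (r + ζ • r) := by abel
    _ = r := by rw [← h1, add_zero]

omit h in
theorem all {r : M} (hr : ζ • r = r) (hQ : ∀ σ, Qs σ → σ • r = r) (σ : Perm (Fin 5)) : σ • r = r := by
  obtain ⟨i, k, h1⟩ := gen σ
  rw [smul_eq hQ h1, mul_smul]
  have h2 : ∀ k : ℕ, ζ ^ k • r = r := by
    intro k
    induction k with
    | zero => rw [pow_zero, one_smul]
    | succ k ih => rw [pow_succ, mul_smul, hr, ih]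
  rw [h2, hQ _ (al_Qs i)]

theorem c01_Qs : ∀ σ, Qs σ → σ • (c 0 + c 1) = c 0 + c 1 := by
  rintro σ (⟨h1, h2⟩ | ⟨h1, h2⟩)
  · rw [smul_add, h.act, h.act, h1, h2]
  · rw [smul_add, h.act, h.act, h1, h2, add_comm]

/-- a vector fixed by `Sym {0,1} × Sym {2,3,4}` -/
theorem stepK {y : M} (hy : ∀ σ, Qs σ → σ • y = y) :
    (∀ σ : Perm (Fin 5), σ • y = y) ∨ ∀ σ : Perm (Fin 5), σ • (y + (c 0 + c 1)) = y + (c 0 + c 1) := by
  have h1 : ∀ d ∈ D8, d • (y + ζ • y) = y + ζ • y := by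
    intro d hd
    rcases d_ζ d hd with ⟨k1, k2⟩ | ⟨k1, k2⟩
    · have e1 := hy _ k1
      have e2 := hy _ k2
      rw [mul_assoc, mul_smul, inv_smul_eq_iff, mul_smul] at e2
      rw [smul_add, e1, e2]
    · have e1 := hy _ k1
      have e2 := hy _ k2
      rw [mul_smul, inv_smul_eq_iff] at e1
      rw [mul_smul] at e2
      rw [smul_add, e1, e2, add_comm]
  rcases h.fixed _ h1 with h2 | h2
  · exact Or.inl (all (h.five h2) hy)
  · right
    have e : y + ζ • y + c 4 = (y + (c 0 + c 1)) + ζ • (y + (c 0 + c 1)) := by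
      rw [smul_add, smul_add, h.act, h.act, ← h.sum]
      change y + ζ • y + (c 0 + c 1 + (c 2 + c 3)) = y + (c 0 + c 1) + (ζ • y + (c 2 + c 3))
      abel
    rw [e] at h2
    refine all (h.five h2) fun σ hσ => ?_
    rw [smul_add, hy σ hσ, h.c01_Qs σ hσ]

theorem N_c (i : Fin 5) : N (c i) = 0 := by
  have key : N (c 0) = 0 := by
    have e1 : ζ • c 0 = c 2 := h.act _ _
    have e2 : ζ ^ 2 • c 0 = c 4 := h.act _ _
    have e3 : ζ ^ 3 • c 0 = c 1 := h.act _ _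
    have e4 : ζ ^ 4 • c 0 = c 3 := h.act _ _
    rw [N, e1, e2, e3, e4]
    calc c 0 + c 2 + c 4 + c 1 + c 3 = (c 0 + c 1 + (c 2 + c 3)) + c 4 := by abel
      _ = 0 := by rw [h.sum, h.two]
  have h2 : ∃ k : ℕ, c i = ζ ^ k • c 0 := by
    fin_cases i
    · exact ⟨0, by rw [pow_zero, one_smul]; rfl⟩
    · exact ⟨3, (h.act (ζ ^ 3) 0).symm⟩
    · exact ⟨1, by rw [pow_one]; exact (h.act ζ 0).symm⟩
    · exact ⟨4, (h.act (ζ ^ 4) 0).symm⟩
    · exact ⟨2, (h.act (ζ ^ 2) 0).symm⟩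
  obtain ⟨k, hk⟩ := h2
  rw [hk, N_pow, key]

/-- the main step -/
theorem main {b : M} (hb : ∀ σ, Rs σ → σ • b = b) (hv : ∀ σ : Perm (Fin 5), σ • (b + χ • b) = b + χ • b) :
    χ • b = b := by
  obtain ⟨v, hvd⟩ : ∃ v, v = b + χ • b := ⟨_, rfl⟩
  rw [← hvd] at hv
  have hχ : χ • b = b + v := by
    rw [hvd, ← add_assoc, h.two, zero_add]
  -- `y`
  obtain ⟨y, hyd⟩ : ∃ y, y = ∑ i : Fin 3, τ ^ (i : ℕ) • b := ⟨_, rfl⟩
  have hyQ : ∀ σ, Qs σ → σ • y = y := by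
    intro σ hσ
    obtain ⟨j, hj⟩ := perm3 σ hσ
    have h1 : ∀ i : Fin 3, σ • τ ^ (i : ℕ) • b = τ ^ ((j i : Fin 3) : ℕ) • b := by
      intro i
      rw [smul_smul]
      refine smul_eq hb ?_
      rw [← mul_assoc]
      exact hj i
    rw [hyd, Finset.smul_sum, Finset.sum_congr rfl fun i _ => h1 i]
    exact Equiv.sum_comp j fun i : Fin 3 => τ ^ (i : ℕ) • b
  have hy3 : y = b + τ • b + τ ^ 2 • b := by
    rw [hyd, Fin.sum_univ_three]
    simp
  obtain ⟨r, hr, hry⟩ : ∃ r : M, (∀ σ : Perm (Fin 5), σ • r = r) ∧ N y = r ∧ N (κ • y) = r := by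
    rcases h.stepK hyQ with h1 | h1
    · exact ⟨y, h1, h.N_fix h1, by rw [h1, h.N_fix h1]⟩
    · refine ⟨_, h1, ?_, ?_⟩
      · have h2 := h.N_fix h1
        rw [N_add, N_add, h.N_c, h.N_c, add_zero, add_zero] at h2
        exact h2
      · have h2 := h.N_fix h1
        rw [← h1 κ] at h2
        rw [smul_add, smul_add, h.act, h.act, N_add, N_add, h.N_c, h.N_c, add_zero, add_zero] at h2
        rw [h2]
        have h3 := h1 κ
        rw [smul_add, smul_add, h.act, h.act] at h3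
        exact h3
  have hsum : N y + N (κ • y) = 0 := by rw [hry.1, hry.2, h.two]
  have r1 : N b = N (τ • b) + v := by
    have h1 := smul_eq hb rel1
    rw [mul_smul, hχ, smul_add, hv] at h1
    rw [← N_pow 4 b, h1, N_add, h.N_fix hv]
  have r2 : N (κ • b) = N (κ • τ ^ 2 • b) + v := by
    have h1 := smul_eq hb rel2
    rw [mul_smul, mul_smul, hχ, mul_smul, smul_add, hv, smul_add, hv] at h1
    rw [← N_pow 2 (κ • b), h1, N_add, h.N_fix hv]
  have r3 : N (τ ^ 2 • b) = N (κ • τ • b) + v := by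
    have h1 := smul_eq hb rel3
    rw [mul_smul, mul_smul, hχ, mul_smul, smul_add, hv, smul_add, hv] at h1
    rw [← N_pow 4 (τ ^ 2 • b), h1, N_add, h.N_fix hv]
  have h3 : v = 0 := by
    rw [hy3, smul_add, smul_add, N_add, N_add, N_add, N_add, r1, r2, r3] at hsum
    have t1 := h.two (N (τ • b))
    have t2 := h.two (N (κ • τ • b))
    have t3 := h.two (N (κ • τ ^ 2 • b))
    have t4 := h.two v
    calc v = (N (τ • b) + v + N (τ • b) + (N (κ • τ • b) + v) +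
          (N (κ • τ ^ 2 • b) + v + N (κ • τ • b) + N (κ • τ ^ 2 • b))) + ((N (τ • b) + N (τ • b)) +
          (N (κ • τ • b) + N (κ • τ • b)) + (N (κ • τ ^ 2 • b) + N (κ • τ ^ 2 • b)) + (v + v)) -
          2 • ((N (τ • b) + N (τ • b)) + (N (κ • τ • b) + N (κ • τ • b)) +
          (N (κ • τ ^ 2 • b) + N (κ • τ ^ 2 • b))) - 2 • (v + v) := by abel
      _ = 0 := by rw [hsum, t1, t2, t3, t4]; simp
  rw [hχ, h3, add_zero]

/-- **A vector fixed by `⟨(0 1), (2 3)⟩` is fixed by `D8` up to `c 0 + c 1`.** -/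
theorem key {b : M} (hb : ∀ σ, Rs σ → σ • b = b) :
    (∀ d ∈ D8, d • b = b) ∨ ∀ d ∈ D8, d • (b + (c 0 + c 1)) = b + (c 0 + c 1) := by
  have fin : ∀ {b : M}, (∀ σ, Rs σ → σ • b = b) → χ • b = b → ∀ d ∈ D8, d • b = b := by
    intro b hb hχ d hd
    rcases d_χ d hd with ⟨k1, -⟩ | ⟨k1, -⟩
    · exact hb _ k1
    · rw [smul_eq hb k1, hχ]
  have h1 : ∀ d ∈ D8, d • (b + χ • b) = b + χ • b := by
    intro d hd
    rcases d_χ d hd with ⟨k1, k2⟩ | ⟨k1, k2⟩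
    · have e1 := hb _ k1
      have e2 := hb _ k2
      rw [mul_assoc, mul_smul, inv_smul_eq_iff, mul_smul] at e2
      rw [smul_add, e1, e2]
    · have e1 := hb _ k1
      have e2 := hb _ k2
      rw [mul_smul, inv_smul_eq_iff] at e1
      rw [mul_smul] at e2
      rw [smul_add, e1, e2, add_comm]
  rcases h.fixed _ h1 with h2 | h2
  · exact Or.inl (fin hb (h.main hb h2))
  · right
    have hb' : ∀ σ, Rs σ → σ • (b + (c 0 + c 1)) = b + (c 0 + c 1) := by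
      intro σ hσ
      rw [smul_add, hb σ hσ, h.c01_Qs σ hσ.1]
    have e : b + χ • b + c 4 = (b + (c 0 + c 1)) + χ • (b + (c 0 + c 1)) := by
      rw [smul_add, smul_add, h.act, h.act, ← h.sum]
      change b + χ • b + (c 0 + c 1 + (c 2 + c 3)) = b + (c 0 + c 1) + (χ • b + (c 2 + c 3))
      abel
    rw [e] at h2
    exact fin hb' (h.main hb' h2)

end Mo

end

end Cfsg.Agent.Omega.F4Leaf.Cen.Mod
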