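import Cfsg.Agent.Omega.F4Leaf.Cen.Base

/-!
# LeafF4, `m = 2`, `n` 2-central (bb OMEGA #18108): the interface between (0)-(2) and (3)-(5)

`Out S P V₀ p r v e w` : `r` normalises `T = C_S(n)`, centralises `n` and swaps `a` and `v ∈ V₀`; `e` induces `(0 1)`
and is in `O₂(C(n))`, `w` induces `(2 4)` and is in `O₂(C(p 2 * p 4))`.
-/

set_option autoImplicit false

namespace Cfsg.Agent.Omega.F4Leaf.Cen

open Subgroup Cfsg
open Cfsg.Agent.ZN (zc zl o2)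
open Cfsg.Agent.Omega.NTwo (nn aa)

universe u

variable {G : Type u} [Group G] [Finite G]

/-- The output of (0)-(2) of #18108. -/
structure Out (S : Sylow 2 G) (P V0 : Subgroup G) (p : Fin 5 → G) (r v e w : G) : Prop
    extends SV (S : Subgroup G) P V0 p where
  char2 : IsCharacteristicTwoType G
  r_T : r ∈ normalizer (TT (S : Subgroup G) p : Set G)
  r_sq : r * r ∈ TT (S : Subgroup G) p
  r_n : r * nn p * r⁻¹ = nn p
  r_a : r * aa p * r⁻¹ = v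
  r_v : r * v * r⁻¹ = aa p
  v_mem : v ∈ V0
  Q_T : o2 (centralizer {nn p}) ≤ TT (S : Subgroup G) p
  V_Q : zl (S : Subgroup G) P ≤ o2 (centralizer {nn p})
  Q_V : ∀ q ∈ o2 (centralizer {nn p}), ∀ x ∈ zl (S : Subgroup G) P, q * x * q⁻¹ = x ∨ q * x * q⁻¹ = nn p * x
  zcQ_D : zc (o2 (centralizer {nn p})) ≤ o2 P
  e_mem : e ∈ o2 (centralizer {nn p})
  e_p : ∀ i, e * p i * e⁻¹ = p (Equiv.swap 0 1 i)
  w_mem : w ∈ o2 (centralizer {p 2 * p 4})
  w_p : ∀ i, w * p i * w⁻¹ = p (Equiv.swap 2 4 i)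
  w_Q : ∀ q ∈ o2 (centralizer {p 2 * p 4}), w * q * w⁻¹ = q ∨ w * q * w⁻¹ = p 2 * p 4 * q
  zcQ'_D : zc (o2 (centralizer {p 2 * p 4})) ≤ o2 P
  fact : ∀ y ∈ zc (o2 (centralizer {nn p})), (∀ u ∈ zc (o2 (centralizer {p 2 * p 4})), y * u = u * y) →
    y ∈ o2 (centralizer {p 2 * p 4})

/-- `n` is 2-central -/
def NCen (p : Fin 5 → G) : Prop := ∃ T : Sylow 2 G, (T : Subgroup G) ≤ centralizer {nn p}

end Cfsg.Agent.Omega.F4Leaf.Cen
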