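import Cfsg.Agent.Omega.F4Leaf.Cen.R
import Cfsg.Agent.Omega.NTwo.Kill

/-!
# LeafF4, `m = 2`, `n` 2-central (bb OMEGA #18108 (1), (2)): `O₂(C(n)) ≤ T`, FACT, `v = r a r⁻¹ ∈ V₀`

`exists_out` : the output structure `Out`.
-/

set_option autoImplicit false
set_option linter.unusedSectionVars false

namespace Cfsg.Agent.Omega.F4Leaf.Cen.Q

open Subgroup Cfsg Cfsg.Agent.MinSimple.VModule Pointwise
open Cfsg.Agent.MinSimple.Basic (not_dvd_relIndex char2_centralizer)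
open Cfsg.Agent.ZN (zc zl o2)
open Cfsg.Agent.Omega.S5.Mod (le_o2_of_comm)
open Cfsg.Agent.Omega.NTwo (Fv D8 nn aa cm cc ci conj_inj comm_iff mem_cent o2_cent_conj o2_cent_conj' norm_zc_cent
  mem_zc_of norm_cent)

universe u

variable {G : Type u} [Group G]

/-! ### Actions on the five points -/

/-- `g` acts on the points as `σ` -/
def Ac (p : Fin 5 → G) (g : G) (σ : Equiv.Perm (Fin 5)) : Prop := ∀ i, g * p i * g⁻¹ = p (σ i)

section ac

variable {p : Fin 5 → G}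

theorem Ac.mul {g k : G} {σ τ : Equiv.Perm (Fin 5)} (h : Ac p g σ) (h' : Ac p k τ) : Ac p (g * k) (σ * τ) := by
  intro i
  rw [← cc, h', h]
  rfl

theorem Ac.inv {g : G} {σ : Equiv.Perm (Fin 5)} (h : Ac p g σ) : Ac p g⁻¹ σ⁻¹ := by
  intro i
  have h1 := h (σ⁻¹ i)
  rw [show σ (σ⁻¹ i) = i from σ.apply_symm_apply i] at h1
  rw [← h1]
  group

theorem Ac.pow {g : G} {σ : Equiv.Perm (Fin 5)} (h : Ac p g σ) (n : ℕ) : Ac p (g ^ n) (σ ^ n) := by
  induction n with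
  | zero => intro i; simp
  | succ n ih =>
    rw [pow_succ, pow_succ]
    exact ih.mul h

theorem dec_fix : ∀ σ : Equiv.Perm (Fin 5), (σ 0 = 0 ∧ σ 1 = 1) ∨ (σ 0 = 1 ∧ σ 1 = 0) →
    (σ 2 = 2 ∧ σ 3 = 3 ∧ σ 4 = 4) ∨ ((σ * σ) ^ 3 = 1 ∧ σ * σ ≠ 1) ∨
    ((σ * ((Equiv.swap (2 : Fin 5) 3 * Equiv.swap 3 4) * σ⁻¹ * (Equiv.swap (2 : Fin 5) 3 * Equiv.swap 3 4)⁻¹)) ^ 3 = 1 ∧
      σ * ((Equiv.swap (2 : Fin 5) 3 * Equiv.swap 3 4) * σ⁻¹ * (Equiv.swap (2 : Fin 5) 3 * Equiv.swap 3 4)⁻¹) ≠ 1) := by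
  decide +kernel

theorem dec_swap : ∀ σ : Equiv.Perm (Fin 5), σ 2 = 2 → σ 3 = 3 → σ 4 = 4 → σ = 1 ∨ σ = Equiv.swap 0 1 := by
  decide +kernel

theorem odd_eq {P : Subgroup G} (hF : Fv P p) {k : G} {κ : Equiv.Perm (Fin 5)} (hk : Ac p k κ)
    (hk2 : ∃ n : ℕ, k ^ 2 ^ n = 1) (h3 : κ ^ 3 = 1) : κ = 1 := by
  obtain ⟨n, hn⟩ := hk2
  have h1 : κ ^ 2 ^ n = 1 := by
    refine Equiv.ext fun i => ?_
    have := hk.pow (2 ^ n) i
    rw [hn, one_mul, inv_one, mul_one] at this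
    exact (hF.inj this).symm
  have h2 : orderOf κ ∣ 2 ^ n := orderOf_dvd_of_pow_eq_one h1
  have h4 : orderOf κ ∣ 3 := orderOf_dvd_of_pow_eq_one h3
  have h5 : Nat.Coprime (2 ^ n) 3 := Nat.Coprime.pow_left _ (by norm_num)
  exact orderOf_eq_one_iff.1 (Nat.eq_one_of_dvd_coprimes h5 h2 h4)

end ac

/-! ### FACT -/

theorem zc_conj [Finite G] {g x y b : G} (e : g * x * g⁻¹ = y) (hb : b ∈ zc (o2 (centralizer ({x} : Set G)))) :
    g * b * g⁻¹ ∈ zc (o2 (centralizer ({y} : Set G))) := by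
  obtain ⟨k1, k2, k3⟩ := mem_zc.1 hb
  refine mem_zc.2 ⟨o2_cent_conj e k1, fun c hc => ?_, by rw [conj_pow, k3, mul_one, mul_inv_cancel]⟩
  have h2 := k2 _ (o2_cent_conj' e hc)
  calc c * (g * b * g⁻¹) = g * (g⁻¹ * c * g * b) * g⁻¹ := by group
    _ = g * (b * (g⁻¹ * c * g)) * g⁻¹ := by rw [h2]
    _ = g * b * g⁻¹ * c := by group

theorem zc_conj' [Finite G] {g x y b : G} (e : g * x * g⁻¹ = y) (hb : b ∈ zc (o2 (centralizer ({y} : Set G)))) :
    g⁻¹ * b * g ∈ zc (o2 (centralizer ({x} : Set G))) := by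
  have h1 : g⁻¹ * y * g⁻¹⁻¹ = x := by rw [← e]; group
  have h2 := zc_conj h1 hb
  rwa [inv_inv] at h2

/-- **FACT** -/
theorem fact [Finite G] {n ρ y : G} (hn : n ∈ zc (o2 (centralizer ({ρ} : Set G))))
    (hy : y ∈ zc (o2 (centralizer ({n} : Set G)))) (hyρ : y * ρ * y⁻¹ = ρ)
    (hc : ∀ u ∈ zc (o2 (centralizer ({ρ} : Set G))), u * y * u⁻¹ = y) : y ∈ o2 (centralizer ({ρ} : Set G)) := by
  obtain ⟨K, hK⟩ : ∃ K, K = centralizer ({ρ} : Set G) ⊓
      centralizer (zc (o2 (centralizer ({ρ} : Set G))) : Set G) := ⟨_, rfl⟩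
  have hKa : K ≤ centralizer ({ρ} : Set G) := hK ▸ inf_le_left
  have hKn : K ≤ centralizer ({n} : Set G) := by
    intro k hk
    rw [hK, mem_inf, mem_centralizer_iff] at hk
    rw [mem_cent, comm_iff]
    exact (hk.2 _ hn).symm
  have hN1 : zc (o2 (centralizer ({n} : Set G))) ⊓ K ≤ o2 K := by
    refine le_o2 inf_le_right ((o2_isPGroup _).to_le (inf_le_left.trans (zc_le _))) ?_
    refine le_trans (le_inf (hKn.trans ?_) le_normalizer) inf_normalizer_le_normalizer_inf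
    exact (le_normalizer_o2 _).trans (normalizer_le_normalizer_zc _)
  have hK1 : centralizer ({ρ} : Set G) ≤ normalizer (K : Set G) := by
    rw [hK]
    refine le_trans (le_inf le_normalizer ?_) inf_normalizer_le_normalizer_inf
    exact ((le_normalizer_o2 _).trans (normalizer_le_normalizer_zc _)).trans (norm_cent _)
  have hK2 : o2 K ≤ o2 (centralizer ({ρ} : Set G)) :=
    le_o2 ((o2_le K).trans hKa) (o2_isPGroup K) (hK1.trans (normalizer_le_normalizer_o2' K))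
  refine hK2 (hN1 (mem_inf.2 ⟨hy, ?_⟩))
  rw [hK, mem_inf]
  refine ⟨mem_cent.2 hyρ, mem_centralizer_iff.2 fun u hu => ?_⟩
  exact comm_iff.1 (hc u hu)

/-! ### `V₀` -/

section v0

variable {S P V0 : Subgroup G} {p : Fin 5 → G} (h : SV S P V0 p)
include h

theorem pair_notin {i j : Fin 5} (hij : i ≠ j) : p i * p j ∉ V0 := by
  intro hi
  obtain ⟨k, hk1, hk2, -⟩ := Fv.exists_fourth i j i
  obtain ⟨g, hg, hgs⟩ := h.full (Equiv.swap j k)
  have h2 := h.cen _ hi g hg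
  rw [cm, hgs, hgs, Equiv.swap_apply_of_ne_of_ne hij hk1.symm, Equiv.swap_apply_left] at h2
  exact hk2 (h.inj (mul_left_cancel h2))

theorem tri_notin {i j : Fin 5} (_ : i ≠ j) : p i * p j * p 4 ∉ V0 := by
  intro hi
  by_cases h4 : i = 4
  · rw [h4, h.comm 4 j, mul_assoc, h.sq, mul_one] at hi
    exact h.p_notin _ hi
  by_cases h4' : j = 4
  · rw [h4', mul_assoc, h.sq, mul_one] at hi
    exact h.p_notin _ hi
  obtain ⟨k, hk1, hk2, hk3⟩ := Fv.exists_fourth i j 4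
  obtain ⟨g, hg, hgs⟩ := h.full (Equiv.swap 4 k)
  have h2 := h.cen _ hi g hg
  rw [cm, cm, hgs, hgs, hgs, Equiv.swap_apply_of_ne_of_ne h4 hk1.symm, Equiv.swap_apply_of_ne_of_ne h4' hk2.symm,
    Equiv.swap_apply_left] at h2
  exact hk3 (h.inj (mul_left_cancel h2))

theorem pP (i : Fin 5) : p i ∈ P := h.le (h.pS i)

theorem v0_comm {v : G} (hv : v ∈ V0) (i : Fin 5) : v * p i = p i * v := by
  have h1 := h.cen v hv (p i) (pP h i)
  rw [comm_iff] at h1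
  exact h1.symm

end v0

variable [Finite G]

variable (hG : IsCharacteristicTwoType G) (S : Sylow 2 G) {P V0 : Subgroup G} {p : Fin 5 → G}
  (h : SV (S : Subgroup G) P V0 p)
include h

omit [Finite G] in
theorem T_perm {x : G} (hx : x ∈ TT (S : Subgroup G) p) : x * p 2 * x⁻¹ = p 2 ∨ x * p 2 * x⁻¹ = p 3 := by
  obtain ⟨h1, h2⟩ := mem_T.1 hx
  obtain ⟨σ, hσ⟩ := h.perm x (h.le h1)
  have h3 := h.T_a hx
  rw [aa, cm, hσ, hσ] at h3
  rcases h.pair_inj (fun e => absurd (σ.injective e) (by decide)) (by decide) h3 with ⟨e, -⟩ | ⟨e, -⟩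
  · left; rw [hσ, e]
  · right; rw [hσ, e]

omit [Finite G] in
theorem exists_two {Q : Subgroup G} (hQ : IsPGroup 2 Q) {x : G} (hx : x ∈ Q) : ∃ n : ℕ, x ^ 2 ^ n = 1 := by
  obtain ⟨n, hn⟩ := hQ ⟨x, hx⟩
  exact ⟨n, by simpa using congrArg Subtype.val hn⟩

/-- `O₂(C(n)) ∩ P` fixes `2`, `3`, `4` -/
theorem fix_of_mem {x : G} (hx : x ∈ o2 (centralizer ({nn p} : Set G))) (hP : x ∈ P) :
    ∃ σ, Ac p x σ ∧ σ 2 = 2 ∧ σ 3 = 3 ∧ σ 4 = 4 := by
  obtain ⟨σ, hσ⟩ := h.perm x hP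
  have hn : x * nn p * x⁻¹ = nn p := mem_cent.1 (o2_le _ hx)
  have h01 : (σ 0 = 0 ∧ σ 1 = 1) ∨ (σ 0 = 1 ∧ σ 1 = 0) := by
    rw [nn, cm, hσ, hσ] at hn
    exact h.pair_inj (fun e => absurd (σ.injective e) (by decide)) (by decide) hn
  obtain ⟨l, hl, hlσ⟩ := h.full (Equiv.swap (2 : Fin 5) 3 * Equiv.swap 3 4)
  have hln : l * nn p * l⁻¹ = nn p := by
    rw [nn, cm, hlσ, hlσ]
    rfl
  have hy : x * (l * x⁻¹ * l⁻¹) ∈ o2 (centralizer ({nn p} : Set G)) := mul_mem hx (o2_cent_conj hln (inv_mem hx))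
  have hσ' : Ac p x σ := hσ
  have hlσ' : Ac p l (Equiv.swap (2 : Fin 5) 3 * Equiv.swap 3 4) := hlσ
  rcases dec_fix σ h01 with h1 | ⟨h1, h2⟩ | ⟨h1, h2⟩
  · exact ⟨σ, hσ, h1⟩
  · exact absurd (odd_eq h.toFv (hσ'.mul hσ') (exists_two S h (o2_isPGroup _) (mul_mem hx hx)) h1) h2
  · exact absurd (odd_eq h.toFv (hσ'.mul ((hlσ'.mul hσ'.inv).mul hlσ'.inv))
      (exists_two S h (o2_isPGroup _) hy) h1) h2

include hG

theorem not_P {T₁ : Sylow 2 G} (t : R.TOne (S : Subgroup G) p T₁) {r : G} (hr : r ∈ (T₁ : Subgroup G))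
    (hrT : r ∉ TT (S : Subgroup G) p) : r ∉ P := by
  intro hP
  obtain ⟨σ, hσ⟩ := h.perm r hP
  have h1 := R.q_mem hG S h t hr hrT
  rw [aa, cm, hσ, hσ] at h1
  have h23 : σ 2 ≠ σ 3 := fun e => absurd (σ.injective e) (by decide)
  rcases h.zc4 _ h1 with h2 | h2
  · exact pair_notin h h23 h2
  · exact tri_notin h h23 h2

/-- **(1)** `O₂(C(n)) ≤ T` -/
theorem Q_le {T₁ : Sylow 2 G} (t : R.TOne (S : Subgroup G) p T₁) :
    o2 (centralizer ({nn p} : Set G)) ≤ TT (S : Subgroup G) p := by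
  intro w hw
  by_contra hwT
  have hT₁ : (T₁ : Subgroup G) ≤ centralizer ({nn p} : Set G) := fun x hx => mem_cent.2 (t.cen x hx)
  have hQT₁ : ∀ x ∈ o2 (centralizer ({nn p} : Set G)), x ∈ (T₁ : Subgroup G) := fun x hx =>
    o2_le_of_sylow T₁.isPGroup' (not_dvd_relIndex T₁ hT₁) hx
  have hwP : w ∉ P := not_P hG S h t (hQT₁ w hw) hwT
  obtain ⟨q, hq⟩ : ∃ q, q = w * aa p * w⁻¹ := ⟨_, rfl⟩
  have hqz : q ∈ zc (S : Subgroup G) := hq ▸ R.q_mem hG S h t (hQT₁ w hw) hwT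
  have hqq : q * q = 1 := by
    have := (mem_zc.1 hqz).2.2
    rwa [pow_two] at this
  have key : ∀ l ∈ P, l * nn p * l⁻¹ = nn p → w * (l * aa p * l⁻¹) * w⁻¹ = l * q * l⁻¹ := by
    intro l hl hln
    obtain ⟨u, hu⟩ : ∃ u, u = l⁻¹ * w * l := ⟨_, rfl⟩
    have huQ : u ∈ o2 (centralizer ({nn p} : Set G)) := hu ▸ o2_cent_conj' hln hw
    have huT : u ∉ TT (S : Subgroup G) p := fun h1 => hwP (by
      have h2 : u ∈ P := h.le (T_le h1)
      have e : w = l * u * l⁻¹ := by rw [hu]; group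
      rw [e]
      exact mul_mem (mul_mem hl h2) (inv_mem hl))
    have h2 := h.T_a (t.two w (hQT₁ w hw) u (hQT₁ u huQ) hwT huT)
    calc w * (l * aa p * l⁻¹) * w⁻¹ = l * (u * aa p * u⁻¹) * l⁻¹ := by rw [hu]; group
      _ = l * (w * ((w⁻¹ * u) * aa p * (w⁻¹ * u)⁻¹) * w⁻¹) * l⁻¹ := by group
      _ = l * q * l⁻¹ := by rw [h2, hq]
  obtain ⟨l, hl, hlp⟩ := h.full (Equiv.swap 3 4)
  obtain ⟨l', hl', hlp'⟩ := h.full (Equiv.swap 2 4)
  have hln : l * nn p * l⁻¹ = nn p := by rw [nn, cm, hlp, hlp]; rfl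
  have hln' : l' * nn p * l'⁻¹ = nn p := by rw [nn, cm, hlp', hlp']; rfl
  have hla : l * aa p * l⁻¹ = p 2 * p 4 := by rw [aa, cm, hlp, hlp]; rfl
  have hla' : l' * aa p * l'⁻¹ = p 4 * p 3 := by rw [aa, cm, hlp', hlp']; rfl
  have h1 := key l hl hln
  have h2 := key l' hl' hln'
  rw [hla] at h1
  rw [hla'] at h2
  have h3 : aa p * (p 2 * p 4) * (p 4 * p 3) = 1 := by
    have e : aa p * (p 2 * p 4) * (p 4 * p 3) = p 2 * p 3 * p 2 * (p 4 * p 4) * p 3 := by rw [aa]; group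
    rw [e, h.sq, mul_one, h.comm 2 3, mul_assoc (p 3), h.sq, mul_one, h.sq]
  have h4 : q * (l * q * l⁻¹) * (l' * q * l'⁻¹) = 1 := by
    have e : q * (l * q * l⁻¹) * (l' * q * l'⁻¹) = w * (aa p * (p 2 * p 4) * (p 4 * p 3)) * w⁻¹ := by
      rw [← h1, ← h2, hq]; group
    rw [e, h3]
    group
  have hq1 : q ≠ 1 := fun e => h.a_ne_one (conj_inj (g := w) (by rw [← hq, e]; group))
  rcases h.zc4 q hqz with h5 | h5
  · rw [h.cen q h5 l hl, h.cen q h5 l' hl', hqq, one_mul] at h4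
    exact hq1 h4
  · obtain ⟨v, hv⟩ : ∃ v, v = q * p 4 := ⟨_, rfl⟩
    rw [← hv] at h5
    have hqv : q = v * p 4 := by rw [hv, mul_assoc, h.sq, mul_one]
    have e1 : l * q * l⁻¹ = v * p 3 := by
      rw [hqv, cm, h.cen v h5 l hl, hlp]
      rfl
    have e2 : l' * q * l'⁻¹ = v * p 2 := by
      rw [hqv, cm, h.cen v h5 l' hl', hlp']
      rfl
    rw [e1, e2, hqv] at h4
    have c3 := v0_comm h h5 3
    have c4 := v0_comm h h5 4
    have hvv := h.v0_sq h5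
    have e3 : v * p 4 * (v * p 3) * (v * p 2) = v * (p 2 * p 3 * p 4) := by
      calc v * p 4 * (v * p 3) * (v * p 2) = v * (p 4 * v) * p 3 * v * p 2 := by group
        _ = v * v * p 4 * (p 3 * v) * p 2 := by rw [← c4]; group
        _ = v * v * (p 4 * v) * p 3 * p 2 := by rw [← c3]; group
        _ = v * v * v * (p 4 * (p 3 * p 2)) := by rw [← c4]; group
        _ = v * (p 2 * p 3 * p 4) := by
          rw [hvv, one_mul, h.comm 3 2, ← mul_assoc (p 4), h.comm 4 2, mul_assoc (p 2), h.comm 4 3, ← mul_assoc (p 2)]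
    rw [e3] at h4
    have e4 : p 2 * p 3 * p 4 = nn p := h.as
    rw [e4] at h4
    have e5 : v = nn p := by
      rw [← h.ninv]
      exact eq_inv_of_mul_eq_one_left h4
    exact h.n_notin (e5 ▸ h5)

section useT

variable {T₁ : Sylow 2 G} (t : R.TOne (S : Subgroup G) p T₁)
include t

theorem Q_act {q : G} (hq : q ∈ o2 (centralizer ({nn p} : Set G))) : Ac p q 1 ∨ Ac p q (Equiv.swap 0 1) := by
  obtain ⟨σ, hσ, s2, s3, s4⟩ := fix_of_mem S h hq (h.le (T_le (Q_le hG S h t hq)))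
  rcases dec_swap σ s2 s3 s4 with e | e
  · left; rwa [← e]
  · right; rwa [← e]

theorem Q_V {q x : G} (hq : q ∈ o2 (centralizer ({nn p} : Set G))) (hx : x ∈ zl (S : Subgroup G) P) :
    q * x * q⁻¹ = x ∨ q * x * q⁻¹ = nn p * x := by
  have hqP : q ∈ P := h.le (T_le (Q_le hG S h t hq))
  have hp : ∀ i, q * p i * q⁻¹ = p i ∨ q * p i * q⁻¹ = nn p * p i := by
    intro i
    rcases Q_act hG S h t hq with h1 | h1
    · left; exact h1 i
    · rw [h1 i]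
      have key : ∀ i : Fin 5, Equiv.swap (0 : Fin 5) 1 i = i ∨ (i = 0 ∧ Equiv.swap (0 : Fin 5) 1 i = 1) ∨
          (i = 1 ∧ Equiv.swap (0 : Fin 5) 1 i = 0) := by decide
      rcases key i with e | ⟨rfl, e⟩ | ⟨rfl, e⟩
      · left; rw [e]
      · right
        rw [e, nn, h.comm 0 1, mul_assoc, h.sq, mul_one]
      · right
        rw [e, nn, mul_assoc, h.sq, mul_one]
  have hcn : ∀ a ∈ closure (Set.range p), a * nn p = nn p * a := by
    intro a ha
    induction ha using closure_induction with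
    | mem x hx =>
      obtain ⟨i, rfl⟩ := hx
      exact (h.pcomm i).symm
    | one => rw [one_mul, mul_one]
    | mul x y _ _ hx hy => rw [mul_assoc, hy, ← mul_assoc, hx, mul_assoc]
    | inv x _ hx =>
      have : Commute x (nn p) := hx
      exact this.inv_left
  have key : ∀ a ∈ closure (Set.range p), q * a * q⁻¹ = a ∨ q * a * q⁻¹ = nn p * a := by
    intro a ha
    induction ha using closure_induction with
    | mem x hx =>
      obtain ⟨i, rfl⟩ := hx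
      exact hp i
    | one => left; group
    | mul x y hx' hy' hx hy =>
      rw [cm]
      rcases hx with e | e <;> rcases hy with e' | e' <;> rw [e, e']
      · left; rfl
      · right
        rw [← mul_assoc, hcn x hx', mul_assoc]
      · right
        rw [mul_assoc]
      · left
        rw [mul_assoc, ← mul_assoc x, hcn x hx', ← mul_assoc, ← mul_assoc, h.nsq, one_mul]
    | inv x hx' hx =>
      have e0 : q * x⁻¹ * q⁻¹ = (q * x * q⁻¹)⁻¹ := by group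
      rcases hx with e | e
      · left; rw [e0, e]
      · right; rw [e0, e, mul_inv_rev, h.ninv, hcn _ (inv_mem hx')]
  obtain ⟨v, hv, a, ha, rfl⟩ := h.zlV x hx
  have hvn : v * nn p = nn p * v := by
    rw [nn, ← mul_assoc, v0_comm h hv 0, mul_assoc, v0_comm h hv 1, mul_assoc]
  rcases key a ha with e | e
  · left
    rw [cm, h.cen v hv q hqP, e]
  · right
    rw [cm, h.cen v hv q hqP, e, ← mul_assoc, hvn, mul_assoc]

theorem V_Q {x : G} (hx : x ∈ zl (S : Subgroup G) P) : x ∈ o2 (centralizer ({nn p} : Set G)) := by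
  have hxn : nn p * x = x * nn p := by
    have h1 := h.n_V
    exact zl_comm h.le S.isPGroup' (not_dvd_relIndex S h.le) (h.par.isLoc.char2 S hG) _ h1 _ hx
  refine le_o2_of_comm hG (by rw [sq]; exact h.nsq) h.n_ne_one hxn.symm fun q hq => ?_
  rcases Q_V hG S h t hq hx with h1 | h1
  · left
    rw [comm_iff] at h1
    calc x * q * x⁻¹ * q⁻¹ = (q * x) * x⁻¹ * q⁻¹ := by rw [h1]
      _ = 1 := by group
  · right
    have h2 : q * x = nn p * x * q := by rw [← h1]; group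
    calc x * q * x⁻¹ * q⁻¹ = nn p * nn p * x * q * x⁻¹ * q⁻¹ := by rw [h.nsq, one_mul]
      _ = nn p * (nn p * x * q) * x⁻¹ * q⁻¹ := by group
      _ = nn p * (q * x) * x⁻¹ * q⁻¹ := by rw [h2]
      _ = nn p := by group

theorem zcQ_D : zc (o2 (centralizer ({nn p} : Set G))) ≤ o2 P := by
  intro x hx
  obtain ⟨h1, h2, -⟩ := mem_zc.1 hx
  refine (h.mem_D hG S).2 ⟨T_le (Q_le hG S h t h1), fun i => ?_⟩
  rw [comm_iff]
  exact (h2 _ (V_Q hG S h t (h.pV i))).symm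

theorem p_zcQ {i : Fin 5} (h0 : i ≠ 0) (h1 : i ≠ 1) : p i ∈ zc (o2 (centralizer ({nn p} : Set G))) := by
  refine mem_zc.2 ⟨V_Q hG S h t (h.pV i), fun q hq => ?_, by rw [pow_two]; exact h.sq i⟩
  rw [← comm_iff]
  rcases Q_act hG S h t hq with h2 | h2
  · exact h2 i
  · rw [h2 i, Equiv.swap_apply_of_ne_of_ne h0 h1]

/-- `zc(O₂(C(x))) ≤ D` for `P`-conjugates `x` of `n` -/
theorem zcQ_D' {g x : G} (hg : g ∈ P) (e : g * nn p * g⁻¹ = x) : zc (o2 (centralizer ({x} : Set G))) ≤ o2 P := by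
  intro u hu
  have h1 := zcQ_D hG S h t (zc_conj' e hu)
  have h2 := (mem_normalizer_iff.1 (le_normalizer_o2 P hg) _).1 h1
  have e2 : g * (g⁻¹ * u * g) * g⁻¹ = u := by group
  rwa [e2] at h2

end useT

end Cfsg.Agent.Omega.F4Leaf.Cen.Q
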