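import Cfsg.Agent.Omega.F4Leaf.Cen.Out
import Cfsg.Agent.Omega.NTwo.Par

/-!
# LeafF4, `m = 2`, `n` 2-central (bb OMEGA #18108 (0)): the element `r`

`T₁ ≥ T` a Sylow 2-subgroup in `C(n)`, `r ∈ T₁ ∖ T` : `q = r a r⁻¹ ≠ a`, `r q r⁻¹ = a`, `q ∈ Ω₁Z(S)`.
-/

set_option autoImplicit false
set_option linter.unusedSectionVars false

namespace Cfsg.Agent.Omega.F4Leaf.Cen.R

open Subgroup Cfsg Cfsg.Agent.MinSimple.VModule Pointwise
open Cfsg.Agent.ZN (zc zl o2)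
open Cfsg.Agent.Omega.NTwo (Fv D8 nn aa cm cc ci conj_inj comm_iff mem_cent exists_conj_le exists_conj_le' mem_smul)

universe u

variable {G : Type u} [Group G] [Finite G]

/-- the group `T₁` -/
structure TOne (S : Subgroup G) (p : Fin 5 → G) (T₁ : Sylow 2 G) : Prop where
  le : TT S p ≤ (T₁ : Subgroup G)
  cen : ∀ x ∈ (T₁ : Subgroup G), x * nn p * x⁻¹ = nn p
  nrm : (T₁ : Subgroup G) ≤ normalizer (TT S p : Set G)
  two : ∀ x ∈ (T₁ : Subgroup G), ∀ y ∈ (T₁ : Subgroup G), x ∉ TT S p → y ∉ TT S p → x⁻¹ * y ∈ TT S p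
  ex : ∃ r ∈ (T₁ : Subgroup G), r ∉ TT S p

/-- an odd power of an element normalising a Sylow subgroup is in it -/
theorem exists_odd (T₁ : Sylow 2 G) {z : G} (hz : ∀ x ∈ (T₁ : Subgroup G), z * x * z⁻¹ ∈ (T₁ : Subgroup G)) :
    ∃ k : ℕ, z ^ (2 * k + 1) ∈ (T₁ : Subgroup G) := by
  have hp2 : Fact (Nat.Prime 2) := ⟨Nat.prime_two⟩
  obtain ⟨a, m, hm, h1⟩ := Nat.exists_eq_pow_mul_and_not_dvd (orderOf_pos z).ne' 2 (by norm_num)
  have hmo : Odd m := by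
    rw [← Nat.not_even_iff_odd]
    exact fun h => hm h.two_dvd
  obtain ⟨k, hk⟩ := hmo
  refine ⟨k, ?_⟩
  rw [← hk]
  have h2 : IsPGroup 2 (zpowers (z ^ m)) := by
    rw [IsPGroup.iff_orderOf]
    rintro ⟨y, hy⟩
    obtain ⟨j, rfl⟩ := mem_zpowers_iff.1 hy
    have h3 : orderOf ((z ^ m) ^ j) ∣ 2 ^ a := by
      rw [orderOf_dvd_iff_pow_eq_one, ← zpow_natCast, ← zpow_mul, mul_comm, zpow_mul, zpow_natCast, ← pow_mul,
        mul_comm m, ← h1, pow_orderOf_eq_one, one_zpow]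
    obtain ⟨b, -, h4⟩ := (Nat.dvd_prime_pow Nat.prime_two).1 h3
    refine ⟨b, ?_⟩
    rw [← h4, ← Subgroup.orderOf_coe]
  have hz' : z ∈ normalizer ((T₁ : Subgroup G) : Set G) := by
    rw [mem_normalizer_iff]
    intro x
    refine ⟨hz x, fun hx => ?_⟩
    have h3 : MulAut.conj z • (T₁ : Subgroup G) ≤ T₁ := by
      intro y hy
      rw [mem_pointwise_smul_iff_inv_smul_mem] at hy
      have h4 := hz _ hy
      have e : z * ((MulAut.conj z)⁻¹ • y) * z⁻¹ = y := by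
        rw [← map_inv]
        change z * (MulAut.conj z⁻¹ y) * z⁻¹ = y
        rw [MulAut.conj_apply]
        group
      rwa [e] at h4
    have h4 : MulAut.conj z • (T₁ : Subgroup G) = T₁ :=
      eq_of_le_of_card_ge h3 (Nat.card_congr (Subgroup.equivSMul (MulAut.conj z) (T₁ : Subgroup G)).toEquiv).le
    rw [← h4, mem_pointwise_smul_iff_inv_smul_mem] at hx
    have e : (MulAut.conj z)⁻¹ • (z * x * z⁻¹) = x := by
      rw [← map_inv]
      change MulAut.conj z⁻¹ (z * x * z⁻¹) = x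
      rw [MulAut.conj_apply]
      group
    rwa [e] at hx
  have h5 := h2.inf_normalizer_sylow T₁
  have h6 : z ^ m ∈ zpowers (z ^ m) ⊓ (T₁ : Subgroup G) := by
    rw [← h5]
    exact ⟨mem_zpowers _, pow_mem hz' m⟩
  exact h6.2

variable (hG : IsCharacteristicTwoType G) (S : Sylow 2 G) {P V0 : Subgroup G} {p : Fin 5 → G}
  (h : SV (S : Subgroup G) P V0 p)
include h

/-- existence of `T₁` -/
theorem exists_tOne (hN : NCen p) : ∃ T₁ : Sylow 2 G, TOne (S : Subgroup G) p T₁ := by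
  have hp2 : Fact (Nat.Prime 2) := ⟨Nat.prime_two⟩
  obtain ⟨T₀, hT₀⟩ := hN
  have hTn : TT (S : Subgroup G) p ≤ centralizer ({nn p} : Set G) := inf_le_right
  have hT2 : IsPGroup 2 (TT (S : Subgroup G) p) := S.isPGroup'.to_le T_le
  obtain ⟨T₁, hTT₁, hT₁⟩ := exists_conj_le T₀ hT₀ hT2 hTn
  have hcard : Nat.card (T₁ : Subgroup G) = 2 * Nat.card (TT (S : Subgroup G) p) := by
    rw [← h.card_S]
    exact Nat.card_congr (Sylow.equiv T₁ S).toEquiv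
  have h3 : 0 < Nat.card (TT (S : Subgroup G) p) := Nat.card_pos
  have hidx : ((TT (S : Subgroup G) p).subgroupOf (T₁ : Subgroup G)).index = 2 := by
    have e : Nat.card ((TT (S : Subgroup G) p).subgroupOf (T₁ : Subgroup G)) = Nat.card (TT (S : Subgroup G) p) :=
      Nat.card_congr (subgroupOfEquivOfLe hTT₁).toEquiv
    have h1 := card_mul_index ((TT (S : Subgroup G) p).subgroupOf (T₁ : Subgroup G))
    rw [e, hcard] at h1
    rw [mul_comm] at h1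
    exact Nat.eq_of_mul_eq_mul_right h3 h1
  have hT₁n : (T₁ : Subgroup G) ≤ normalizer (TT (S : Subgroup G) p : Set G) :=
    (normal_subgroupOf_iff_le_normalizer hTT₁).1 (normal_of_index_eq_two hidx)
  refine ⟨T₁, hTT₁, fun x hx => mem_cent.1 (hT₁ hx), hT₁n, ?_, ?_⟩
  · intro x hx y hy hxT hyT
    have h3 := mul_mem_iff_of_index_two hidx (a := (⟨x, hx⟩ : (T₁ : Subgroup G))⁻¹) (b := ⟨y, hy⟩)
    rw [inv_mem_iff] at h3
    have h4 := h3.mpr (iff_of_false (fun h => hxT (mem_subgroupOf.mp h)) (fun h => hyT (mem_subgroupOf.mp h)))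
    exact mem_subgroupOf.mp h4
  · by_contra hcon
    push Not at hcon
    have h4 : Nat.card (T₁ : Subgroup G) ≤ Nat.card (TT (S : Subgroup G) p) := card_le_of_le hcon
    omega

variable {T₁ : Sylow 2 G} (t : TOne (S : Subgroup G) p T₁)
include t

/-- `T₁` does not centralise `a` -/
theorem not_cent : ¬ ∀ x ∈ (T₁ : Subgroup G), x * aa p * x⁻¹ = aa p := by
  intro h1
  obtain ⟨x, hx, hxp⟩ := h.tau
  have hxn : x * nn p * x⁻¹ = aa p := by rw [nn, cm, hxp, hxp]; rfl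
  have hxa : x * aa p * x⁻¹ = nn p := h.a_eq_conj hx hxn
  obtain ⟨Y, hY⟩ : ∃ Y : Subgroup G, Y = centralizer ({nn p} : Set G) ⊓ centralizer ({aa p} : Set G) := ⟨_, rfl⟩
  have hYm : ∀ y, y ∈ Y ↔ y * nn p * y⁻¹ = nn p ∧ y * aa p * y⁻¹ = aa p := fun y => by
    rw [hY, mem_inf, mem_cent, mem_cent]
  have hT₁Y : (T₁ : Subgroup G) ≤ Y := fun y hy => (hYm y).2 ⟨t.cen y hy, h1 y hy⟩
  have hxT₁ : ((x • T₁ : Sylow 2 G) : Subgroup G) ≤ Y := by
    intro y hy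
    rw [mem_smul] at hy
    obtain ⟨k1, k2⟩ := (hYm _).1 (hT₁Y hy)
    refine (hYm y).2 ⟨?_, ?_⟩
    · calc y * nn p * y⁻¹ = x * ((x⁻¹ * y * x) * (x⁻¹ * nn p * x) * (x⁻¹ * y * x)⁻¹) * x⁻¹ := by group
        _ = x * ((x⁻¹ * y * x) * aa p * (x⁻¹ * y * x)⁻¹) * x⁻¹ := by rw [← hxa]; group
        _ = nn p := by rw [k2, hxa]
    · calc y * aa p * y⁻¹ = x * ((x⁻¹ * y * x) * (x⁻¹ * aa p * x) * (x⁻¹ * y * x)⁻¹) * x⁻¹ := by group
        _ = x * ((x⁻¹ * y * x) * nn p * (x⁻¹ * y * x)⁻¹) * x⁻¹ := by rw [← hxn]; group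
        _ = aa p := by rw [k1, hxn]
  obtain ⟨c, hc, h2, -⟩ := exists_conj_le' (x • T₁) hxT₁ T₁.isPGroup' hT₁Y
  obtain ⟨c1, c2⟩ := (hYm c).1 hc
  obtain ⟨z, hz⟩ : ∃ z, z = (c * x)⁻¹ := ⟨_, rfl⟩
  have h3 : ∀ y ∈ (T₁ : Subgroup G), z * y * z⁻¹ ∈ (T₁ : Subgroup G) := by
    intro y hy
    have := h2 hy
    rw [mem_smul, mem_smul] at this
    rw [hz]
    have e : (c * x)⁻¹ * y * (c * x)⁻¹⁻¹ = x⁻¹ * (c⁻¹ * y * c) * x := by group
    rwa [e]
  have hci : ∀ y : G, c * y * c⁻¹ = y → c⁻¹ * y * c = y := by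
    intro y e
    calc c⁻¹ * y * c = c⁻¹ * (c * y * c⁻¹) * c := by rw [e]
      _ = y := by group
  have hzn : z * nn p * z⁻¹ = aa p := by
    calc z * nn p * z⁻¹ = x⁻¹ * (c⁻¹ * nn p * c) * x := by rw [hz]; group
      _ = x⁻¹ * (x * aa p * x⁻¹) * x := by rw [hci _ c1, hxa]
      _ = aa p := by group
  have hza : z * aa p * z⁻¹ = nn p := by
    calc z * aa p * z⁻¹ = x⁻¹ * (c⁻¹ * aa p * c) * x := by rw [hz]; group
      _ = x⁻¹ * (x * nn p * x⁻¹) * x := by rw [hci _ c2, hxn]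
      _ = nn p := by group
  obtain ⟨k, hk⟩ := exists_odd T₁ h3
  have h4 : ∀ j : ℕ, z ^ (2 * j + 1) * nn p * (z ^ (2 * j + 1))⁻¹ = aa p := by
    intro j
    induction j with
    | zero => simpa using hzn
    | succ j ih =>
      have e : z ^ (2 * (j + 1) + 1) = z * z * z ^ (2 * j + 1) := by
        rw [← pow_two, ← pow_add]
        congr 1
        ring
      calc z ^ (2 * (j + 1) + 1) * nn p * (z ^ (2 * (j + 1) + 1))⁻¹
          = z * (z * (z ^ (2 * j + 1) * nn p * (z ^ (2 * j + 1))⁻¹) * z⁻¹) * z⁻¹ := by rw [e]; group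
        _ = aa p := by rw [ih, hza, hzn]
  exact h.n_ne_a ((t.cen _ hk).symm.trans (h4 k))

theorem ra_ne {r : G} (hr : r ∈ (T₁ : Subgroup G)) (hrT : r ∉ TT (S : Subgroup G) p) : r * aa p * r⁻¹ ≠ aa p := by
  intro h1
  refine not_cent S h t fun x hx => ?_
  by_cases hxT : x ∈ TT (S : Subgroup G) p
  · exact h.T_a hxT
  · have h2 := h.T_a (t.two r hr x hx hrT hxT)
    calc x * aa p * x⁻¹ = r * ((r⁻¹ * x) * aa p * (r⁻¹ * x)⁻¹) * r⁻¹ := by group
      _ = aa p := by rw [h2, h1]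

theorem rr_mem {r : G} (hr : r ∈ (T₁ : Subgroup G)) (hrT : r ∉ TT (S : Subgroup G) p) :
    r * r ∈ TT (S : Subgroup G) p := by
  have h1 := t.two r⁻¹ (inv_mem hr) r hr (fun h2 => hrT ((inv_mem_iff).1 h2)) hrT
  rwa [inv_inv] at h1

theorem rr_a {r : G} (hr : r ∈ (T₁ : Subgroup G)) (hrT : r ∉ TT (S : Subgroup G) p) :
    r * (r * aa p * r⁻¹) * r⁻¹ = aa p := by
  rw [cc]
  exact h.T_a (rr_mem S h t hr hrT)

theorem norm_zcT {g b : G} (hg : g ∈ normalizer (TT (S : Subgroup G) p : Set G))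
    (hb : b ∈ zc (TT (S : Subgroup G) p)) : g * b * g⁻¹ ∈ zc (TT (S : Subgroup G) p) :=
  (mem_normalizer_iff.1 (normalizer_le_normalizer_zc _ hg) _).1 hb

include hG in
/-- **(0)** `q ∈ Ω₁Z(S)` -/
theorem q_mem {r : G} (hr : r ∈ (T₁ : Subgroup G)) (hrT : r ∉ TT (S : Subgroup G) p) :
    r * aa p * r⁻¹ ∈ zc (S : Subgroup G) := by
  obtain ⟨q, hq⟩ : ∃ q, q = r * aa p * r⁻¹ := ⟨_, rfl⟩
  have hqa : q ≠ aa p := hq ▸ ra_ne S h t hr hrT
  have hrq : r * q * r⁻¹ = aa p := hq ▸ rr_a S h t hr hrT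
  have hqz : q ∈ zc (TT (S : Subgroup G) p) := hq ▸ norm_zcT S h t (t.nrm hr) h.a_zcT
  rw [← hq]
  refine (h.mem_zcT hG S hqz).resolve_right fun hnq => ?_
  have hs := h.s_mem
  have hqq : q * q = 1 := by
    have := (mem_zc.1 hqz).2.2
    rwa [pow_two] at this
  have haT : aa p ∈ TT (S : Subgroup G) p := zc_le _ h.a_zcT
  have hqT : q ∈ TT (S : Subgroup G) p := zc_le _ hqz
  have haq : aa p * q = q * aa p := (mem_zc.1 hqz).2.1 _ haT
  -- `c = a q ∈ Ω₁Z(S)`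
  obtain ⟨c, hc⟩ : ∃ c, c = aa p * q := ⟨_, rfl⟩
  have hcS : c ∈ zc (S : Subgroup G) := by
    have e : c = p 4 * (nn p * q) := by
      rw [hc, h.a_eq, ← mul_assoc]
      congr 1
      rw [h.pcomm]
    rw [e]
    exact mul_mem hs hnq
  have hcr : r * c * r⁻¹ = c := by
    rw [hc, cm, ← hq, hrq, haq]
  have hSc : ∀ x ∈ (S : Subgroup G), x * c * x⁻¹ = c := fun x hx => comm_iff.2 ((mem_zc.1 hcS).2.1 x hx)
  have hT₁c : ∀ x ∈ (T₁ : Subgroup G), x * c * x⁻¹ = c := by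
    intro x hx
    by_cases hxT : x ∈ TT (S : Subgroup G) p
    · exact hSc x (T_le hxT)
    · have h2 := hSc _ (T_le (t.two r hr x hx hrT hxT))
      calc x * c * x⁻¹ = r * ((r⁻¹ * x) * c * (r⁻¹ * x)⁻¹) * r⁻¹ := by group
        _ = c := by rw [h2, hcr]
  -- `T₁ = g S g⁻¹`
  obtain ⟨X, hX⟩ : ∃ X : Subgroup G, X = normalizer (TT (S : Subgroup G) p : Set G) ⊓ centralizer ({c} : Set G) :=
    ⟨_, rfl⟩
  have hSX : (S : Subgroup G) ≤ X := fun x hx => hX ▸ mem_inf.2 ⟨h.le_norm_T hx, mem_cent.2 (hSc x hx)⟩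
  have hT₁X : (T₁ : Subgroup G) ≤ X := fun x hx => hX ▸ mem_inf.2 ⟨t.nrm hx, mem_cent.2 (hT₁c x hx)⟩
  obtain ⟨g, hg, h1, -⟩ := exists_conj_le' S hSX T₁.isPGroup' hT₁X
  rw [hX, mem_inf, mem_cent] at hg
  obtain ⟨hgT, hgc⟩ := hg
  have h2 := h1 hr
  rw [mem_smul] at h2
  have h3 : g⁻¹ * aa p * g ∈ zc (TT (S : Subgroup G) p) := by
    have := norm_zcT S h t (inv_mem hgT) h.a_zcT
    rwa [inv_inv] at this
  -- `[S, Ω₁Z(T)] ≤ ⟨s⟩`
  have key : ∀ x ∈ (S : Subgroup G), ∀ b ∈ zc (TT (S : Subgroup G) p),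
      x * b * x⁻¹ * b⁻¹ = 1 ∨ x * b * x⁻¹ * b⁻¹ = p 4 := by
    intro x hx b hb
    rcases h.mem_zcT hG S hb with h4 | h4
    · left
      rw [(comm_iff.2 ((mem_zc.1 h4).2.1 x hx)), mul_inv_cancel]
    · have h5 : x * (nn p * b) * x⁻¹ = nn p * b := comm_iff.2 ((mem_zc.1 h4).2.1 x hx)
      have e : x * b * x⁻¹ = (x * nn p * x⁻¹)⁻¹ * (nn p * b) := by
        rw [← h5]; group
      rcases h.part hx with h6 | h6
      · left
        rw [e, h6]
        group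
      · right
        rw [e, h6, h.ainv]
        calc aa p * (nn p * b) * b⁻¹ = aa p * nn p := by group
          _ = p 4 := h.an
  have h4 : c = g * p 4 * g⁻¹ := by
    have e : c = g * ((g⁻¹ * r * g) * (g⁻¹ * aa p * g) * (g⁻¹ * r * g)⁻¹ * (g⁻¹ * aa p * g)⁻¹) * g⁻¹ := by
      calc c = q * aa p := by rw [hc, haq]
        _ = r * aa p * r⁻¹ * (aa p)⁻¹ := by rw [hq, h.ainv]
        _ = _ := by group
    rcases key _ h2 _ h3 with h5 | h5
    · exfalso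
      rw [h5] at e
      have e2 : c = 1 := by rw [e]; group
      apply hqa
      rw [hc] at e2
      calc q = aa p * (aa p * q) := by rw [← mul_assoc, h.asq, one_mul]
        _ = aa p := by rw [e2, mul_one]
    · rw [h5] at e
      exact e
  have h5 : c = p 4 := by
    have e : g⁻¹ * c * g = p 4 := by rw [h4]; group
    rw [← e]
    calc c = g⁻¹ * (g * c * g⁻¹) * g := by group
      _ = g⁻¹ * c * g := by rw [hgc]
  have h6 : q = nn p := by
    calc q = aa p * (aa p * q) := by rw [← mul_assoc, h.asq, one_mul]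
      _ = nn p := by rw [← hc, h5, h.as]
  exact h.n_ne_a (conj_inj (g := r) (by rw [t.cen r hr, ← hq, h6]))

end Cfsg.Agent.Omega.F4Leaf.Cen.R
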