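import Cfsg.Agent.Omega.F4Leaf.Cen.Sides
import Cfsg.Agent.Omega.NTwo.Zero

/-!
# LeafF4, `m = 2`, `n` 2-central: the standard position `SV` from `Split`
-/

set_option autoImplicit false
set_option linter.unusedSectionVars false

namespace Cfsg.Agent.Omega.F4Leaf.Cen.Std

open Subgroup Cfsg Cfsg.Agent.MinSimple.VModule Pointwise
open Cfsg.Agent.MinSimple.Basic (not_dvd_relIndex char2_centralizer)
open Cfsg.Agent.ZN (zc zl o2)
open Cfsg.Agent.Omega.MinPar (IsPar IsParS IsLoc)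
open Cfsg.Agent.Omega.FrameFF (cv)
open Cfsg.Agent.Omega.S5.Def Cfsg.Agent.Omega.S5.Syl
open Cfsg.Agent.Omega.F4Leaf.Def
open Cfsg.Agent.Omega.NTwo (Fv D8 D8_fix D8_one exists_D8 nn aa cm cc ci conj_inj comm_iff mem_cent mem_smul)

universe u

variable {G : Type u} [Group G]

/-- `S` acts as the dihedral group after relabelling -/
theorem exists_d8 [Finite G] (S : Sylow 2 G) {P : Subgroup G} {p : Fin 5 → G} (h : Fv P p)
    (hSP : (S : Subgroup G) ≤ P) :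
    ∃ ρ : Equiv.Perm (Fin 5), (∀ x ∈ (S : Subgroup G), ∃ d ∈ D8, ∀ i, x * p (ρ i) * x⁻¹ = p (ρ (d i))) ∧
      ∀ d ∈ D8, ∃ x ∈ (S : Subgroup G), ∀ i, x * p (ρ i) * x⁻¹ = p (ρ (d i)) := by
  have hp : Fact (Nat.Prime 2) := ⟨Nat.prime_two⟩
  obtain ⟨φ, hφs, hφ⟩ := h.exists_hom
  obtain ⟨D, hD⟩ := exists_D8
  obtain ⟨ρ, hρ⟩ := MulAction.exists_smul_eq (Equiv.Perm (Fin 5)) D ((S.subtype hSP).mapSurjective hφs)
  have h1 : ∀ σ, σ ∈ ((S : Subgroup G).subgroupOf P).map φ ↔ ρ⁻¹ * σ * ρ ∈ D8 := by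
    intro σ
    have h2 : (((S.subtype hSP).mapSurjective hφs : Sylow 2 (Equiv.Perm (Fin 5))) : Subgroup _) =
        ((S : Subgroup G).subgroupOf P).map φ := by
      rw [Sylow.coe_mapSurjective]; rfl
    rw [← h2, ← hρ, ← hD]
    exact mem_smul
  refine ⟨ρ, ?_, ?_⟩
  · intro x hx
    have h2 : φ ⟨x, hSP hx⟩ ∈ ((S : Subgroup G).subgroupOf P).map φ := ⟨_, mem_subgroupOf.2 hx, rfl⟩
    refine ⟨_, (h1 _).1 h2, fun i => ?_⟩
    have h3 := hφ ⟨x, hSP hx⟩ (ρ i)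
    change x * p (ρ i) * x⁻¹ = _ at h3
    rw [h3, Equiv.Perm.mul_apply, Equiv.Perm.mul_apply]
    rw [show ρ (ρ⁻¹ _) = _ from ρ.apply_symm_apply _]
  · intro d hd
    have h2 : ρ * d * ρ⁻¹ ∈ ((S : Subgroup G).subgroupOf P).map φ := by
      rw [h1]
      have e : ρ⁻¹ * (ρ * d * ρ⁻¹) * ρ = d := by group
      rwa [e]
    obtain ⟨x, hx, h3⟩ := h2
    refine ⟨x, mem_subgroupOf.1 hx, fun i => ?_⟩
    have h4 := hφ x (ρ i)
    rw [h4, h3, Equiv.Perm.mul_apply, Equiv.Perm.mul_apply]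
    rw [show ρ⁻¹ (ρ i) = i from ρ.symm_apply_apply _]

theorem dec_block : ∀ i j : Fin 5, i ≠ j → Equiv.swap i j ∈ D8 → ∃ δ ∈ D8, δ 0 = i ∧ δ 1 = j := by
  decide +kernel

variable [Finite G] (hG : IsCharacteristicTwoType G) (S : Sylow 2 G) {P A : Subgroup G}
  {ε : (Fin (2 ^ 2 + 1) → ZMod 2) → G} (hs : Split (S : Subgroup G) P 2 A ε) (hP : IsParS (S : Subgroup G) P)
include hG hs hP

theorem V_le_S : zl (S : Subgroup G) P ≤ (S : Subgroup G) :=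
  ((hP.isLoc.zl_le S hG).trans (zc_le _)).trans (hP.isLoc.o2_le S)

/-- 871's structure with `Y = Ω₁Z(O₂(P))` -/
theorem big : App.Big (S : Subgroup G) P (cv (S : Subgroup G) P) A (zc (o2 P)) ε where
  ev := hs.even
  fix0 := hs.fix0
  le := hP.le
  comm y hy y' hy' := (mem_zc.1 hy').2.1 _ (zc_le _ hy)
  sq y hy := by
    have := (mem_zc.1 hy).2.2
    rwa [pow_two] at this
  ge := hs.A_le.trans (hP.isLoc.zl_le S hG)
  nrm g hg y hy := (mem_normalizer_iff.1 (normalizer_le_normalizer_zc _ (le_normalizer_o2 P hg)) y).1 hy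
  syl s hsS hsA := by
    have h1 : s ∈ o2 P := by
      rw [← hP.inf_centralizer S hG, mem_inf, mem_centralizer_iff]
      refine ⟨hsS, fun y hy => ?_⟩
      obtain ⟨v, hv, a, ha, rfl⟩ := hs.mul_eq hG hP hy
      have h2 : s * v = v * s := hs.comm (hP.le hsS) hv
      have h3 : a * s = s * a := mem_centralizer_iff.1 hsA a ha
      rw [mul_assoc, h3, ← mul_assoc, ← h2, mul_assoc]
    rw [mem_centralizer_iff]
    intro y hy
    exact ((mem_zc.1 hy).2.1 s h1).symm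
  cz v hv g hg := hs.comm hg hv
  fixed y hy hyS := by
    have h1 : y ∈ zc (S : Subgroup G) :=
      mem_zc.2 ⟨hP.isLoc.o2_le S (zc_le _ hy), hyS, (mem_zc.1 hy).2.2⟩
    rcases hs.zc_mul hG hP (by norm_num) h1 with h2 | h2
    · exact ⟨y, h2, Or.inl rfl⟩
    · refine ⟨_, h2, Or.inr ?_⟩
      rw [mul_assoc, hs.even.sq, mul_one]

/-- **The standard position.** -/
theorem exists_sv {i j : Fin 5} (hij : i ≠ j) {b : G} (hb : b ∈ (S : Subgroup G))
    (hbs : Acts ε b (Equiv.swap (α := Fin (2 ^ 2 + 1)) i j)) :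
    ∃ ρ : Equiv.Perm (Fin 5), ρ 0 = i ∧ ρ 1 = j ∧
      SV (S : Subgroup G) P (cv (S : Subgroup G) P) (fun k => ε (Pi.single (M := fun _ : Fin (2 ^ 2 + 1) => ZMod 2) (ρ k) 1)) := by
  obtain ⟨p, hp⟩ : ∃ p : Fin 5 → G, p = fun k => ε (Pi.single (M := fun _ : Fin (2 ^ 2 + 1) => ZMod 2) k 1) := ⟨_, rfl⟩
  have hpk : ∀ k, ε (Pi.single (M := fun _ : Fin (2 ^ 2 + 1) => ZMod 2) k 1) = p k := fun k => by rw [hp]
  obtain ⟨hF, hA⟩ := NTwo.Zero.fv_of_even (show EvenSet 5 A P ε from hs.even)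
  have hF : Fv P p := by rw [hp]; exact hF
  have hA : A = closure (Set.range p) := by rw [hp]; exact hA
  have hac : ∀ {g : G} {σ : Equiv.Perm (Fin 5)}, Acts (n := 2 ^ 2 + 1) ε g σ → ∀ k, g * p k * g⁻¹ = p (σ k) := by
    intro g σ hg k
    rw [hp]
    exact hg.single k
  obtain ⟨ρ, h1, h2⟩ := exists_d8 S hF hP.le
  obtain ⟨d, hd, hdb⟩ := h1 b hb
  have hde : d = Equiv.swap (ρ⁻¹ i) (ρ⁻¹ j) := by
    rw [Equiv.swap_apply_apply, inv_inv]
    refine Equiv.ext fun k => ?_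
    have h3 := hdb k
    rw [hac hbs] at h3
    have h4 := hF.inj h3
    rw [Equiv.Perm.mul_apply, Equiv.Perm.mul_apply, h4]
    exact (ρ.symm_apply_apply _).symm
  obtain ⟨δ, hδ, e0, e1⟩ := dec_block _ _ (fun e => hij (ρ⁻¹.injective e)) (hde ▸ hd)
  obtain ⟨π, hπ⟩ : ∃ π, π = ρ * δ := ⟨_, rfl⟩
  have hπk : ∀ k, π k = ρ (δ k) := fun k => by rw [hπ]; rfl
  have hact : ∀ x ∈ (S : Subgroup G), ∃ d ∈ D8, ∀ i, x * p (π i) * x⁻¹ = p (π (d i)) := by
    intro x hx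
    obtain ⟨d, hd, h3⟩ := h1 x hx
    refine ⟨δ⁻¹ * d * δ, mul_mem (mul_mem (inv_mem hδ) hd) hδ, fun i => ?_⟩
    rw [hπk, h3, hπk, Equiv.Perm.mul_apply, Equiv.Perm.mul_apply]
    rw [show δ (δ⁻¹ (d (δ i))) = d (δ i) from δ.apply_symm_apply _]
  have hact8 : ∀ d ∈ D8, ∃ x ∈ (S : Subgroup G), ∀ i, x * p (π i) * x⁻¹ = p (π (d i)) := by
    intro d hd
    obtain ⟨x, hx, h3⟩ := h2 (δ * d * δ⁻¹) (mul_mem (mul_mem hδ hd) (inv_mem hδ))
    refine ⟨x, hx, fun i => ?_⟩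
    rw [hπk, h3, hπk, Equiv.Perm.mul_apply, Equiv.Perm.mul_apply]
    rw [show δ⁻¹ (δ i) = i from δ.symm_apply_apply _]
  have h4 : π 4 = 0 := by
    by_contra hne
    obtain ⟨k, hk⟩ : ∃ k, π k = 0 := ⟨π.symm 0, π.apply_symm_apply 0⟩
    have hk4 : k ≠ 4 := fun e => hne (by rw [← e, hk])
    obtain ⟨d, hd, h5⟩ := D8_one k hk4
    obtain ⟨x, hx, h6⟩ := hact8 d hd
    obtain ⟨τ, hτ⟩ := hs.even.perm x (hP.le hx)
    have h7 := hs.fix0 x hx τ hτ
    have h8 := hac hτ 0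
    rw [show τ 0 = 0 from h7, ← hk, h6] at h8
    exact h5 (π.injective (hF.inj h8))
  refine ⟨π, by rw [hπk, e0]; exact ρ.apply_symm_apply _, by rw [hπk, e1]; exact ρ.apply_symm_apply _, ?_⟩
  have hpp : (fun k => ε (Pi.single (M := fun _ : Fin (2 ^ 2 + 1) => ZMod 2) (π k) 1)) = p ∘ π := by
    funext k
    exact hpk (π k)
  rw [hpp]
  have hpV : ∀ k, p k ∈ zl (S : Subgroup G) P := fun k => hs.A_le (hA ▸ subset_closure ⟨k, rfl⟩)
  have hS2 := not_dvd_relIndex S hP.le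
  refine
    { toFv := hF.relabel π
      par := hP
      act := hact
      act8 := hact8
      v0 := hs.cv_le_zc hG hP
      cen := ?_
      zc4 := ?_
      zlV := ?_
      pV := fun i => hpV _
      pS := fun i => V_le_S hG S hs hP (hpV _)
      same := ?_ }
  · intro v hv g hg
    exact comm_iff.2 (hs.comm hg hv)
  · intro x hx
    have h5 := hs.zc_mul hG hP (by norm_num) hx
    rw [Function.comp_apply, h4]
    rwa [hpk] at h5
  · intro x hx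
    obtain ⟨v, hv, a, ha, rfl⟩ := hs.mul_eq hG hP hx
    refine ⟨v, hv, a, ?_, rfl⟩
    rw [π.surjective.range_comp, ← hA]
    exact ha
  · intro g hg k hk hgk y hy
    obtain ⟨σ, hσ⟩ := hs.even.perm g hg
    obtain ⟨τ, hτ⟩ := hs.even.perm k hk
    have h5 : σ = τ := by
      refine Equiv.ext fun l => ?_
      obtain ⟨i, hi⟩ : ∃ i, π i = l := ⟨π.symm l, π.apply_symm_apply l⟩
      have h6 := hgk i
      rw [Function.comp_apply, hi, hac hσ, hac hτ] at h6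
      exact hF.inj h6
    subst h5
    exact (big hG S hs hP).act_eq hS2 S.isPGroup' hg hk hσ hτ hy

end Cfsg.Agent.Omega.F4Leaf.Cen.Std
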