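import Cfsg.Agent.Omega.F4Leaf.Cen.Out

/-!
# LeafF4, `m = 2`, `n` 2-central (bb OMEGA #18108): step (3)

`Out S P V₀ p r v e w` as in `Cen.Out`, `τ ∈ S` inducing `(0 2)(1 3)`, `b₀ = p 2 * p 4`, `u = r b₀ r⁻¹`.

* `Out.V_zcv` : `V_P ≤ Ω₁Z(O₂(C(v)))`;
* `Out.three` : with `g = r τ r`, `(g b₀ g⁻¹) b₀ ∈ Ω₁Z(T)`;
* `Out.three'` : `(τ u τ⁻¹) u ∈ Ω₁Z(T)`.
-/

set_option autoImplicit false

namespace Cfsg.Agent.Omega.F4Leaf.Cen

open Subgroup Cfsg Cfsg.Agent.MinSimple.VModule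
open Cfsg.Agent.ZN (zc zl o2)
open Cfsg.Agent.Omega.MinPar (IsPar IsParS IsLoc)
open Cfsg.Agent.Omega.NTwo (Fv D8 nn aa cm cc ci conj_inj comm_iff mem_cent o2_cent_conj o2_cent_conj' mem_zc_of
  norm_zc_cent)

universe u

variable {G : Type u} [Group G]

/-- `b₀ = p 2 * p 4` -/
abbrev bf (p : Fin 5 → G) : G := p 2 * p 4

theorem rs_cases : ∀ d : Equiv.Perm (Fin 5), Mod.Rs d →
    ((d 2 = 2 ∧ d 3 = 3 ∧ d 4 = 4) ∧ ((∀ i, d i = i) ∨ ∀ i, d i = Equiv.swap 0 1 i)) ∨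
      (d 2 = 3 ∧ d 3 = 2 ∧ d 4 = 4) := by decide +kernel

theorem sw01 : (∀ i : Fin 5, Equiv.swap (0 : Fin 5) 1 (Equiv.swap (0 : Fin 5) 1 i) = i) := by decide

namespace Out

section

variable [Finite G] {S : Sylow 2 G} {P V0 : Subgroup G} {p : Fin 5 → G} {r v e w : G} (h : Out S P V0 p r v e w)
include h

theorem sv : SV (S : Subgroup G) P V0 p := h.toSV

theorem v_ne_one : v ≠ 1 := by
  intro e1
  refine h.sv.a_ne_one (conj_inj (g := r) ?_)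
  rw [h.r_a, e1]; group

theorem v_sq : v * v = 1 := h.sv.v0_sq h.v_mem

theorem v_S {x : G} (hx : x ∈ (S : Subgroup G)) : x * v * x⁻¹ = v := h.cen v h.v_mem x (h.sv.le hx)

theorem v_zcT : v ∈ zc (TT (S : Subgroup G) p) := h.sv.zc_le_zcT (h.v0 h.v_mem)

theorem abf : aa p * bf p = p 3 * p 4 := by
  rw [aa, bf, h.comm 2 3, mul_assoc, ← mul_assoc (p 2) (p 2), h.sq, one_mul]

theorem bf_sq : bf p * bf p = 1 := by
  rw [bf, mul_assoc, ← mul_assoc (p 4), h.comm 4 2, mul_assoc (p 2), h.sq, mul_one, h.sq]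

theorem bf_V : bf p ∈ zl (S : Subgroup G) P := mul_mem (h.pV 2) (h.pV 4)

theorem a_bf : aa p * bf p = bf p * aa p := by
  rw [bf, ← mul_assoc, h.sv.pcomm', mul_assoc, h.sv.pcomm', ← mul_assoc]

theorem bf_ne_abf : bf p ≠ aa p * bf p := fun e1 => h.sv.a_ne_one (mul_right_cancel (e1.symm.trans (one_mul _).symm))

theorem V_zcD {x : G} (hx : x ∈ zl (S : Subgroup G) P) : x ∈ zc (o2 P) := h.par.isLoc.zl_le S h.char2 hx

theorem D_V {d x : G} (hd : d ∈ o2 P) (hx : x ∈ zl (S : Subgroup G) P) : d * x * d⁻¹ = x :=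
  comm_iff.2 ((mem_zc.1 (h.V_zcD hx)).2.1 d hd)

/-- `V_P ≤ Ω₁Z(O₂(C(v)))` -/
theorem V_zcv {x : G} (hx : x ∈ zl (S : Subgroup G) P) : x ∈ zc (o2 (centralizer {v})) := by
  have hP : P ≤ centralizer {v} := fun g hg => mem_cent.2 (h.cen v h.v_mem g hg)
  have h1 : o2 (centralizer {v}) ≤ o2 P := MinPar.o2_le_o2 S h.sv.le hP
  have h2 := h.V_zcD hx
  have h3 := (mem_zc.1 h2).2.2
  rw [sq] at h3
  refine mem_zc_of h.char2 h.v_sq h.v_ne_one h3 ?_ fun q hq => h.D_V (h1 hq) hx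
  exact h.cen v h.v_mem x (o2_le _ (zc_le _ h2))

/-- the points are permuted by `T` with `{0,1}`, `{2,3}`, `{4}` preserved -/
theorem rs {t : G} (ht : t ∈ TT (S : Subgroup G) p) : ∃ d, Mod.Rs d ∧ ∀ i, t * p i * t⁻¹ = p (d i) := by
  obtain ⟨h1, h2⟩ := mem_T.1 ht
  obtain ⟨d, hd, h3⟩ := h.act t h1
  refine ⟨d, ⟨?_, NTwo.D8_fix d hd⟩, h3⟩
  rcases NTwo.D8_part d hd with h4 | h4
  · exact h4
  · exfalso
    rw [nn, cm, h3, h3] at h2
    rcases h4 with ⟨e0, e1⟩ | ⟨e0, e1⟩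
    · rw [e0, e1] at h2; exact h.sv.n_ne_a h2.symm
    · rw [e0, e1, h.comm] at h2; exact h.sv.n_ne_a h2.symm

theorem e_T : e ∈ TT (S : Subgroup G) p := h.Q_T h.e_mem

/-- an element of `T` fixing `p 2` is in `D` or `e D` -/
theorem D_or {t : G} (ht : t ∈ TT (S : Subgroup G) p) (h2 : t * p 2 * t⁻¹ = p 2) : t ∈ o2 P ∨ e⁻¹ * t ∈ o2 P := by
  obtain ⟨d, hd, h3⟩ := h.rs ht
  rcases rs_cases d hd with ⟨-, h4 | h4⟩ | ⟨h4, -, -⟩
  · left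
    exact (h.sv.mem_D h.char2 S).2 ⟨T_le ht, fun i => by rw [h3, h4]⟩
  · right
    refine (h.sv.mem_D h.char2 S).2 ⟨mul_mem (inv_mem (T_le h.e_T)) (T_le ht), fun i => ?_⟩
    have h5 := h.e_p (Equiv.swap 0 1 i)
    rw [sw01] at h5
    calc e⁻¹ * t * p i * (e⁻¹ * t)⁻¹ = e⁻¹ * (t * p i * t⁻¹) * e := by group
      _ = p i := by rw [h3, h4, ← h.e_p i, ci]
  · rw [h3, h4] at h2
    exact absurd (h.inj h2) (by decide)

/-- the action of `T` on `b₀` -/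
theorem T_bf {t : G} (ht : t ∈ TT (S : Subgroup G) p) :
    (t * p 2 * t⁻¹ = p 2 ∧ t * bf p * t⁻¹ = bf p) ∨ (t * p 2 * t⁻¹ = p 3 ∧ t * bf p * t⁻¹ = aa p * bf p) := by
  obtain ⟨d, hd, h3⟩ := h.rs ht
  rcases rs_cases d hd with ⟨⟨h4, -, h5⟩, -⟩ | ⟨h4, -, h5⟩
  · left
    rw [bf, cm, h3, h3, h4, h5]
    exact ⟨rfl, rfl⟩
  · right
    rw [h.abf, bf, cm, h3, h3, h4, h5]
    exact ⟨rfl, rfl⟩

theorem T_bf' {t : G} (ht : t ∈ TT (S : Subgroup G) p) : t * bf p * t⁻¹ = bf p ∨ t * bf p * t⁻¹ = aa p * bf p :=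
  (h.T_bf ht).imp And.right And.right

/-- an element of `T` inducing `(2 3)` -/
theorem exists_sw23 : ∃ t ∈ TT (S : Subgroup G) p, t * bf p * t⁻¹ = aa p * bf p := by
  obtain ⟨t, ht, h1⟩ := h.act8 (Equiv.swap 2 3) (by decide +kernel)
  have ht' : t ∈ TT (S : Subgroup G) p := mem_T.2 ⟨ht, by rw [nn, cm, h1, h1]; rfl⟩
  refine ⟨t, ht', ?_⟩
  rw [h.abf, bf, cm, h1, h1]
  rfl

theorem r_conj {t : G} (ht : t ∈ TT (S : Subgroup G) p) : r * t * r⁻¹ ∈ TT (S : Subgroup G) p :=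
  (mem_normalizer_iff.1 h.r_T t).1 ht

theorem r_conj' {t : G} (ht : t ∈ TT (S : Subgroup G) p) : r⁻¹ * t * r ∈ TT (S : Subgroup G) p := by
  have := (mem_normalizer_iff.1 (inv_mem h.r_T) t).1 ht
  rwa [inv_inv] at this

theorem s_conj {x t : G} (hx : x ∈ (S : Subgroup G)) (ht : t ∈ TT (S : Subgroup G) p) :
    x * t * x⁻¹ ∈ TT (S : Subgroup G) p := (mem_normalizer_iff.1 (h.sv.le_norm_T hx) t).1 ht

theorem r_zc {x : G} (hx : x ∈ zc (TT (S : Subgroup G) p)) : r * x * r⁻¹ ∈ zc (TT (S : Subgroup G) p) :=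
  (mem_normalizer_iff.1 (normalizer_le_normalizer_zc _ h.r_T) x).1 hx

theorem r_zc' {x : G} (hx : x ∈ zc (TT (S : Subgroup G) p)) : r⁻¹ * x * r ∈ zc (TT (S : Subgroup G) p) := by
  have := (mem_normalizer_iff.1 (inv_mem (normalizer_le_normalizer_zc _ h.r_T)) x).1 hx
  rwa [inv_inv] at this

theorem n_a_inv : r⁻¹ * aa p * r = v := by
  rw [← h.r_v]; group

theorem r_v_inv : r⁻¹ * v * r = aa p := by
  rw [← h.r_a]; group

theorem r_n_inv : r⁻¹ * nn p * r = nn p := by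
  conv_lhs => rw [← h.r_n]
  group

/-- `w ∈ P` -/
theorem w_P : w ∈ P := by
  obtain ⟨g, hg, h1⟩ := h.full (Equiv.swap 0 2 * Equiv.swap 1 4)
  have h2 : g * nn p * g⁻¹ = p 2 * p 4 := by
    rw [nn, cm, h1, h1]
    rfl
  have h3 := h.sv.le (T_le (h.Q_T (o2_cent_conj' h2 h.w_mem)))
  have h4 : g * (g⁻¹ * w * g) * g⁻¹ = w := by group
  rw [← h4]
  exact mul_mem (mul_mem hg h3) (inv_mem hg)

theorem w_a : w * aa p * w⁻¹ = p 4 * p 3 := by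
  rw [aa, cm, h.w_p, h.w_p]
  rfl

theorem w_bf : w * bf p * w⁻¹ = bf p := mem_cent.1 (o2_le _ h.w_mem)

/-- `D` centralises every element `y` of `Ω₁Z(O₂(C(n)))` on which `T` acts with `[y, T] ≤ ⟨a⟩` -/
theorem D_y {y : G} (hy : y ∈ zc (o2 (centralizer {nn p})))
    (hT : ∀ t ∈ TT (S : Subgroup G) p, t * y * t⁻¹ = y ∨ t * y * t⁻¹ = aa p * y) :
    ∀ d ∈ o2 P, d * y * d⁻¹ = y := by
  intro d hd
  have hDT := h.sv.D_le_T h.char2 S
  have hyD : y ∈ o2 P := h.zcQ_D hy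
  refine (hT d (hDT hd)).resolve_right fun e1 => ?_
  have hwP := h.w_P
  -- `y` commutes with `Ω₁Z(Q₂₄)`
  have hyb : y * (p 2 * p 4) * y⁻¹ = p 2 * p 4 := h.D_V hyD h.bf_V
  have h1 : ∀ x ∈ zc (o2 (centralizer {p 2 * p 4})), y * x = x * y := by
    intro x hx
    have h2 := hT x (hDT (h.zcQ'_D hx))
    rcases h2 with h2 | h2
    · exact (comm_iff.1 h2).symm
    · exfalso
      have h3 : aa p = x * (y * x * y⁻¹)⁻¹ := by
        have : aa p = x * y * x⁻¹ * y⁻¹ := by rw [h2]; group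
        rw [this]; group
      have h4 : aa p ∈ zc (o2 (centralizer {p 2 * p 4})) := by
        rw [h3]
        exact mul_mem hx (inv_mem (norm_zc_cent hyb hx))
      have h5 := comm_iff.2 ((mem_zc.1 h4).2.1 w h.w_mem)
      rw [h.w_a, h.comm 4 3, aa, h.comm 2 3] at h5
      exact absurd (h.inj (mul_left_cancel h5)) (by decide)
  have h2 : y ∈ o2 (centralizer {p 2 * p 4}) := h.fact y hy h1
  -- `w⁻¹ y w = c y`
  obtain ⟨c, hc, hcV, hcc, hcw⟩ : ∃ c : G, w * y * w⁻¹ = c * y ∧ c ∈ zl (S : Subgroup G) P ∧ c * c = 1 ∧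
      w * c * w⁻¹ = c := by
    rcases h.w_Q y h2 with h3 | h3
    · exact ⟨1, by rw [h3, one_mul], one_mem _, one_mul 1, by group⟩
    · exact ⟨p 2 * p 4, h3, h.bf_V, h.bf_sq, h.w_bf⟩
  have hc' : w⁻¹ * y * w = c * y := by
    have h3 : w * (c * y) * w⁻¹ = y := by rw [cm, hcw, hc, ← mul_assoc, hcc, one_mul]
    calc w⁻¹ * y * w = w⁻¹ * (w * (c * y) * w⁻¹) * w := by rw [h3]
      _ = c * y := by group
  have hd' : w * d * w⁻¹ ∈ o2 P := (mem_normalizer_iff.1 (le_normalizer_o2 P hwP) d).1 hd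
  have hcomm : c * (p 4 * p 3) = p 4 * p 3 * c := by
    have h5 : p 4 * p 3 ∈ zl (S : Subgroup G) P := mul_mem (h.pV 4) (h.pV 3)
    exact (mem_zc.1 (h.V_zcD h5)).2.1 c (zc_le _ (h.V_zcD hcV))
  have key : w * d * w⁻¹ * y * (w * d * w⁻¹)⁻¹ = p 4 * p 3 * y := by
    calc w * d * w⁻¹ * y * (w * d * w⁻¹)⁻¹ = w * (d * (w⁻¹ * y * w) * d⁻¹) * w⁻¹ := by group
      _ = w * (c * (aa p * y)) * w⁻¹ := by rw [hc', cm d, h.D_V hd hcV, e1]
      _ = c * (p 4 * p 3 * (c * y)) := by rw [cm, cm, hcw, h.w_a, hc]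
      _ = p 4 * p 3 * (c * c) * y := by rw [← mul_assoc, hcomm]; group
      _ = p 4 * p 3 * y := by rw [hcc, mul_one]
  rcases hT _ (hDT hd') with h5 | h5
  · rw [key] at h5
    exact h.mul_ne_one (show (4 : Fin 5) ≠ 3 by decide) (mul_right_cancel (h5.trans (one_mul y).symm))
  · rw [key] at h5
    have h6 := mul_right_cancel h5
    rw [h.comm 4 3, aa, h.comm 2 3] at h6
    exact absurd (h.inj (mul_left_cancel h6)) (by decide)

section tau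

variable {τ : G} (hτS : τ ∈ (S : Subgroup G)) (hτ : ∀ i, τ * p i * τ⁻¹ = p (Mod.χ i))

omit h hτS [Finite G] in
include hτ in
theorem τ_n : τ * nn p * τ⁻¹ = aa p := by
  rw [nn, cm, hτ, hτ]; rfl

omit h hτS [Finite G] in
include hτ in
theorem τ_a : τ * aa p * τ⁻¹ = nn p := by
  rw [aa, cm, hτ, hτ]; rfl

include hτS hτ

theorem g_a : r * τ * r * aa p * (r * τ * r)⁻¹ = aa p := by
  calc r * τ * r * aa p * (r * τ * r)⁻¹ = r * (τ * (r * aa p * r⁻¹) * τ⁻¹) * r⁻¹ := by group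
    _ = aa p := by rw [h.r_a, h.v_S hτS, h.r_v]

theorem g_v : r * τ * r * v * (r * τ * r)⁻¹ = nn p := by
  calc r * τ * r * v * (r * τ * r)⁻¹ = r * (τ * (r * v * r⁻¹) * τ⁻¹) * r⁻¹ := by group
    _ = nn p := by rw [h.r_v, τ_a hτ, h.r_n]

omit hτ in
theorem g_T {t : G} (ht : t ∈ TT (S : Subgroup G) p) : r * τ * r * t * (r * τ * r)⁻¹ ∈ TT (S : Subgroup G) p := by
  have h1 := h.r_conj (h.s_conj hτS (h.r_conj ht))
  have h2 : r * τ * r * t * (r * τ * r)⁻¹ = r * (τ * (r * t * r⁻¹) * τ⁻¹) * r⁻¹ := by group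
  rwa [h2]

omit hτ in
theorem g_T' {t : G} (ht : t ∈ TT (S : Subgroup G) p) : (r * τ * r)⁻¹ * t * (r * τ * r) ∈ TT (S : Subgroup G) p := by
  have h1 := h.r_conj' (h.s_conj (inv_mem hτS) (h.r_conj' ht))
  have h2 : (r * τ * r)⁻¹ * t * (r * τ * r) = r⁻¹ * (τ⁻¹ * (r⁻¹ * t * r) * τ⁻¹⁻¹) * r := by group
  rwa [h2]

theorem y_zc : r * τ * r * bf p * (r * τ * r)⁻¹ ∈ zc (o2 (centralizer {nn p})) := by
  have h1 := h.V_zcv h.bf_V
  obtain ⟨h2, h3, h4⟩ := mem_zc.1 h1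
  have hg := h.g_v hτS hτ
  refine mem_zc.2 ⟨o2_cent_conj hg h2, fun b hb => ?_, ?_⟩
  · have h5 := h3 _ (o2_cent_conj' hg hb)
    calc b * (r * τ * r * bf p * (r * τ * r)⁻¹)
        = (r * τ * r) * ((r * τ * r)⁻¹ * b * (r * τ * r) * bf p) * (r * τ * r)⁻¹ := by group
      _ = (r * τ * r) * (bf p * ((r * τ * r)⁻¹ * b * (r * τ * r))) * (r * τ * r)⁻¹ := by rw [h5]
      _ = _ := by group
  · rw [sq] at h4 ⊢
    rw [← cm, h4]; group

theorem T_y {t : G} (ht : t ∈ TT (S : Subgroup G) p) :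
    t * (r * τ * r * bf p * (r * τ * r)⁻¹) * t⁻¹ = r * τ * r * bf p * (r * τ * r)⁻¹ ∨
      t * (r * τ * r * bf p * (r * τ * r)⁻¹) * t⁻¹ = aa p * (r * τ * r * bf p * (r * τ * r)⁻¹) := by
  have h1 : t * (r * τ * r * bf p * (r * τ * r)⁻¹) * t⁻¹ =
      (r * τ * r) * (((r * τ * r)⁻¹ * t * (r * τ * r)) * bf p * ((r * τ * r)⁻¹ * t * (r * τ * r))⁻¹) *
        (r * τ * r)⁻¹ := by group
  rw [h1]
  rcases h.T_bf' (h.g_T' hτS ht) with h2 | h2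
  · left; rw [h2]
  · right; rw [h2, cm, h.g_a hτS hτ]

/-- (3) -/
theorem three : r * τ * r * bf p * (r * τ * r)⁻¹ * bf p ∈ zc (TT (S : Subgroup G) p) := by
  have hy := h.y_zc hτS hτ
  have hTy : ∀ t ∈ TT (S : Subgroup G) p, _ := fun t ht => h.T_y hτS hτ ht
  have hD := h.D_y hy hTy
  obtain ⟨t₁, ht₁, h1⟩ := h.exists_sw23
  have ht₀ := h.g_T hτS ht₁
  have h0 : (r * τ * r * t₁ * (r * τ * r)⁻¹) * (r * τ * r * bf p * (r * τ * r)⁻¹) *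
      (r * τ * r * t₁ * (r * τ * r)⁻¹)⁻¹ = aa p * (r * τ * r * bf p * (r * τ * r)⁻¹) := by
    have h2 : (r * τ * r * t₁ * (r * τ * r)⁻¹) * (r * τ * r * bf p * (r * τ * r)⁻¹) *
      (r * τ * r * t₁ * (r * τ * r)⁻¹)⁻¹ = (r * τ * r) * (t₁ * bf p * t₁⁻¹) * (r * τ * r)⁻¹ := by group
    rw [h2, h1, cm, h.g_a hτS hτ]
  revert hy hTy hD ht₀ h0
  generalize r * τ * r * bf p * (r * τ * r)⁻¹ = y
  generalize r * τ * r * t₁ * (r * τ * r)⁻¹ = t₀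
  intro hy hTy hD ht₀ h0
  have hDT := h.sv.D_le_T h.char2 S
  have hyD : y ∈ o2 P := h.zcQ_D hy
  have hyy : y * y = 1 := by
    have := (mem_zc.1 hy).2.2
    rwa [sq] at this
  -- elements of `T` fixing `p 2` centralise `y`
  have h2 : ∀ t ∈ TT (S : Subgroup G) p, t * p 2 * t⁻¹ = p 2 → t * y * t⁻¹ = y := by
    intro t ht h3
    rcases h.D_or ht h3 with h4 | h4
    · exact hD t h4
    · have h5 := hD _ h4
      have h6 : e * y * e⁻¹ = y := comm_iff.2 ((mem_zc.1 hy).2.1 e h.e_mem)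
      calc t * y * t⁻¹ = e * (e⁻¹ * t * y * (e⁻¹ * t)⁻¹) * e⁻¹ := by group
        _ = y := by rw [h5, h6]
  have hay : y ≠ aa p * y := fun e1 => h.sv.a_ne_one (mul_right_cancel (e1.symm.trans (one_mul _).symm))
  have h3 : t₀ * p 2 * t₀⁻¹ = p 3 := by
    rcases h.T_bf ht₀ with ⟨h4, -⟩ | ⟨h4, -⟩
    · exact absurd ((h2 t₀ ht₀ h4).symm.trans h0) hay
    · exact h4
  have hby : bf p * y = y * bf p := by
    have := h.D_V hyD h.bf_V
    rw [comm_iff] at this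
    exact this.symm
  refine mem_zc.2 ⟨mul_mem (hDT hyD) (hDT (zc_le _ (h.V_zcD h.bf_V))), fun t ht => comm_iff.1 ?_, ?_⟩
  · rw [cm]
    rcases h.T_bf ht with ⟨h4, h5⟩ | ⟨h4, h5⟩
    · rw [h2 t ht h4, h5]
    · have h6 : t * y * t⁻¹ = aa p * y := by
        have h7 : t * t₀⁻¹ * p 2 * (t * t₀⁻¹)⁻¹ = p 2 := by
          obtain ⟨d, hd, h8⟩ := h.rs ht₀
          obtain ⟨d', hd', h9⟩ := h.rs ht
          have h10 : t₀ * p 3 * t₀⁻¹ = p 2 := by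
            rcases rs_cases d hd with ⟨⟨q1, -, -⟩, -⟩ | ⟨-, q1, -⟩
            · rw [h8, q1] at h3
              exact absurd (h.inj h3) (by decide)
            · rw [h8, q1]
          have h11 : t * p 3 * t⁻¹ = p 2 := by
            rcases rs_cases d' hd' with ⟨⟨q1, -, -⟩, -⟩ | ⟨-, q1, -⟩
            · rw [h9, q1] at h4
              exact absurd (h.inj h4) (by decide)
            · rw [h9, q1]
          calc t * t₀⁻¹ * p 2 * (t * t₀⁻¹)⁻¹ = t * (t₀⁻¹ * p 2 * t₀) * t⁻¹ := by group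
            _ = t * p 3 * t⁻¹ := by rw [← h10]; group
            _ = p 2 := h11
        have h8 := h2 _ (mul_mem ht (inv_mem ht₀)) h7
        have h12 : t * t₀⁻¹ * aa p * (t * t₀⁻¹)⁻¹ = aa p := h.sv.T_a (mul_mem ht (inv_mem ht₀))
        calc t * y * t⁻¹ = t * t₀⁻¹ * (t₀ * y * t₀⁻¹) * (t * t₀⁻¹)⁻¹ := by group
          _ = aa p * y := by rw [h0, cm, h12, h8]
      rw [h6, h5]
      have h14 : y * aa p = aa p * y := comm_iff.1 (h.D_V hyD h.sv.a_V)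
      calc aa p * y * (aa p * bf p) = aa p * (y * aa p) * bf p := by group
        _ = (aa p * aa p) * y * bf p := by rw [h14]; group
        _ = y * bf p := by rw [h.sv.asq, one_mul]
  · rw [sq]
    calc y * bf p * (y * bf p) = y * (bf p * y) * bf p := by group
      _ = (y * y) * (bf p * bf p) := by rw [hby]; group
      _ = 1 := by rw [hyy, h.bf_sq, one_mul]

end tau

/-! ### `u = r b₀ r⁻¹` -/

theorem u_sq : (r * bf p * r⁻¹) * (r * bf p * r⁻¹) = 1 := by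
  rw [← cm, h.bf_sq]; group

theorem bf_T : bf p ∈ TT (S : Subgroup G) p := h.sv.D_le_T h.char2 S (zc_le _ (h.V_zcD h.bf_V))

theorem u_T : r * bf p * r⁻¹ ∈ TT (S : Subgroup G) p := h.r_conj h.bf_T

theorem u_comm {x : G} (hx : x ∈ zc (TT (S : Subgroup G) p)) : x * (r * bf p * r⁻¹) = r * bf p * r⁻¹ * x :=
  ((mem_zc.1 hx).2.1 _ h.u_T).symm

/-- the action of `T` on `u` -/
theorem T_u {t : G} (ht : t ∈ TT (S : Subgroup G) p) :
    t * (r * bf p * r⁻¹) * t⁻¹ = r * bf p * r⁻¹ ∨ t * (r * bf p * r⁻¹) * t⁻¹ = v * (r * bf p * r⁻¹) := by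
  have h1 : t * (r * bf p * r⁻¹) * t⁻¹ = r * ((r⁻¹ * t * r) * bf p * (r⁻¹ * t * r)⁻¹) * r⁻¹ := by group
  rw [h1]
  rcases h.T_bf' (h.r_conj' ht) with h2 | h2
  · left; rw [h2]
  · right; rw [h2, cm, h.r_a]

/-- `r⁻¹ b₀ r ∈ {u, v u}` -/
theorem rinv_bf : r⁻¹ * bf p * r = r * bf p * r⁻¹ ∨ r⁻¹ * bf p * r = v * (r * bf p * r⁻¹) := by
  have h1 : r⁻¹ * bf p * r = r * ((r * r)⁻¹ * bf p * (r * r)⁻¹⁻¹) * r⁻¹ := by group
  rw [h1]
  rcases h.T_bf' (inv_mem h.r_sq) with h2 | h2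
  · left; rw [h2]
  · right; rw [h2, cm, h.r_a]

/-- (3), conjugated by `r⁻¹` : `(τ u τ⁻¹) u ∈ Ω₁Z(T)` -/
theorem three' {τ : G} (hτS : τ ∈ (S : Subgroup G)) (hτ : ∀ i, τ * p i * τ⁻¹ = p (Mod.χ i)) :
    τ * (r * bf p * r⁻¹) * τ⁻¹ * (r * bf p * r⁻¹) ∈ zc (TT (S : Subgroup G) p) := by
  have h1 := h.r_zc' (h.three hτS hτ)
  have h2 : r⁻¹ * (r * τ * r * bf p * (r * τ * r)⁻¹ * bf p) * r =
      τ * (r * bf p * r⁻¹) * τ⁻¹ * (r⁻¹ * bf p * r) := by group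
  rw [h2] at h1
  rcases h.rinv_bf with h3 | h3
  · rwa [h3] at h1
  · have h4 := mul_mem h1 h.v_zcT
    have h5 : τ * (r * bf p * r⁻¹) * τ⁻¹ * (r⁻¹ * bf p * r) * v = τ * (r * bf p * r⁻¹) * τ⁻¹ * (r * bf p * r⁻¹) := by
      rw [h3, h.u_comm h.v_zcT, mul_assoc, mul_assoc _ v v, h.v_sq, mul_one]
    rwa [h5] at h4

end

end Out

end Cfsg.Agent.Omega.F4Leaf.Cen
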