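import Cfsg.Agent.Omega.F4Leaf.Cen.Q

/-!
# LeafF4, `m = 2`, `n` 2-central (bb OMEGA #18108 (2)): `v = r a r⁻¹ ∈ V₀` and the output structure `Out`
-/

set_option autoImplicit false
set_option linter.unusedSectionVars false

namespace Cfsg.Agent.Omega.F4Leaf.Cen.V

open Subgroup Cfsg Cfsg.Agent.MinSimple.VModule Pointwise
open Cfsg.Agent.MinSimple.Basic (not_dvd_relIndex char2_centralizer)
open Cfsg.Agent.ZN (zc zl o2)
open Cfsg.Agent.Omega.S5.Mod (le_o2_of_comm)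
open Cfsg.Agent.Omega.NTwo (Fv D8 nn aa cm cc ci conj_inj comm_iff mem_cent o2_cent_conj o2_cent_conj' norm_zc_cent
  mem_zc_of norm_cent)
open Cfsg.Agent.Omega.F4Leaf.Cen.Q

universe u

variable {G : Type u} [Group G]

/-- the element inducing `(0 1)` -/
structure El (p : Fin 5 → G) (e : G) : Prop where
  e0 : e * p 0 * e⁻¹ = p 1
  en : e * nn p * e⁻¹ = nn p
  eQ : ∀ q ∈ o2 (centralizer ({nn p} : Set G)), e * q * e⁻¹ = q ∨ e * q * e⁻¹ = nn p * q

variable [Finite G] (hG : IsCharacteristicTwoType G) (S : Sylow 2 G) {P V0 : Subgroup G} {p : Fin 5 → G}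
  (h : SV (S : Subgroup G) P V0 p)
include hG h

theorem e_mem {e : G} (E : El p e) : e ∈ o2 (centralizer ({nn p} : Set G)) := by
  refine le_o2_of_comm hG (by rw [sq]; exact h.nsq) h.n_ne_one (comm_iff.1 E.en) fun q hq => ?_
  rcases E.eQ q hq with h1 | h1
  · left; rw [h1]; group
  · right; rw [h1]; group

variable {T₁ : Sylow 2 G} (t : R.TOne (S : Subgroup G) p T₁)
include t

theorem e_ac {e : G} (E : El p e) : Ac p e (Equiv.swap 0 1) := by
  refine (Q_act hG S h t (e_mem hG S h E)).resolve_left fun h1 => ?_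
  have h2 := E.e0
  rw [h1 0] at h2
  exact absurd (h.inj h2) (by decide)

/-- conjugates of `e` -/
theorem conj_e {e : G} (E : El p e) {g ρ : G} (hg : g * nn p * g⁻¹ = ρ) :
    g * e * g⁻¹ ∈ o2 (centralizer ({ρ} : Set G)) ∧ ∀ q ∈ o2 (centralizer ({ρ} : Set G)),
      (g * e * g⁻¹) * q * (g * e * g⁻¹)⁻¹ = q ∨ (g * e * g⁻¹) * q * (g * e * g⁻¹)⁻¹ = ρ * q := by
  refine ⟨o2_cent_conj hg (e_mem hG S h E), fun q hq => ?_⟩
  have e1 : (g * e * g⁻¹) * q * (g * e * g⁻¹)⁻¹ = g * (e * (g⁻¹ * q * g) * e⁻¹) * g⁻¹ := by group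
  rcases E.eQ _ (o2_cent_conj' hg hq) with h1 | h1
  · left; rw [e1, h1]; group
  · right; rw [e1, h1, ← hg]; group

/-- **(2)** `q = r a r⁻¹ ∈ V₀` -/
theorem v_mem {e : G} (E : El p e) {r : G} (hr : r ∈ (T₁ : Subgroup G)) (hrT : r ∉ TT (S : Subgroup G) p) :
    r * aa p * r⁻¹ ∈ V0 := by
  obtain ⟨q, hq⟩ : ∃ q, q = r * aa p * r⁻¹ := ⟨_, rfl⟩
  have hqS : q ∈ zc (S : Subgroup G) := hq ▸ R.q_mem hG S h t hr hrT
  have hqa : q ≠ aa p := hq ▸ R.ra_ne S h t hr hrT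
  have hq1 : q ≠ 1 := fun e => h.a_ne_one (conj_inj (g := r) (by rw [← hq, e]; group))
  have hrn : r * nn p * r⁻¹ = nn p := t.cen r hr
  have hD : ∀ {g : G}, g ∈ P → ∀ {d : G}, d ∈ o2 P → g * d * g⁻¹ ∈ o2 P := fun hg d hd =>
    (mem_normalizer_iff.1 (le_normalizer_o2 P hg) _).1 hd
  have hDp : ∀ {d : G}, d ∈ o2 P → ∀ i, d * p i * d⁻¹ = p i := fun hd => ((h.mem_D hG S).1 hd).2
  have hQT := Q_le hG S h t
  have heQ := e_mem hG S h E
  have hea := e_ac hG S h t E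
  rw [← hq]
  -- `m`
  obtain ⟨m, hm⟩ : ∃ m, m = r * p 2 * r⁻¹ := ⟨_, rfl⟩
  have hp2z : p 2 ∈ zc (o2 (centralizer ({nn p} : Set G))) := p_zcQ hG S h t (by decide) (by decide)
  have hmz : m ∈ zc (o2 (centralizer ({nn p} : Set G))) := hm ▸ norm_zc_cent hrn hp2z
  have hmD : m ∈ o2 P := zcQ_D hG S h t hmz
  have hp3 : p 3 = aa p * p 2 := by rw [aa, h.comm 2 3, mul_assoc, h.sq, mul_one]
  have hm3 : r * p 3 * r⁻¹ = q * m := by rw [hp3, cm, hm, hq]
  have hTm : ∀ τ ∈ TT (S : Subgroup G) p, τ * m * τ⁻¹ = m ∨ τ * m * τ⁻¹ = q * m := by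
    intro τ hτ
    have h1 : r⁻¹ * τ * r ∈ TT (S : Subgroup G) p := by
      have := (mem_normalizer_iff.1 (inv_mem (t.nrm hr)) τ).1 hτ
      rwa [inv_inv] at this
    have e1 : τ * m * τ⁻¹ = r * (r⁻¹ * τ * r * p 2 * (r⁻¹ * τ * r)⁻¹) * r⁻¹ := by rw [hm]; group
    rcases T_perm S h h1 with h2 | h2
    · left; rw [e1, h2, hm]
    · right; rw [e1, h2, hm3]
  -- `w = x e x⁻¹`
  obtain ⟨x, hx, hxp⟩ := h.tau
  have hxA : Ac p x Mod.χ := hxp
  have hxn : x * nn p * x⁻¹ = aa p := by rw [nn, cm, hxp, hxp]; rfl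
  have hxa : x * aa p * x⁻¹ = nn p := h.a_eq_conj hx hxn
  obtain ⟨hwQ, hwc⟩ := conj_e hG S h t E hxn
  have hwA : Ac p (x * e * x⁻¹) (Equiv.swap 2 3) := by
    have h1 := (hxA.mul hea).mul hxA.inv
    have e1 : Mod.χ * Equiv.swap 0 1 * Mod.χ⁻¹ = Equiv.swap 2 3 := by decide +kernel
    rwa [e1] at h1
  obtain ⟨w, hw⟩ : ∃ w, w = x * e * x⁻¹ := ⟨_, rfl⟩
  rw [← hw] at hwQ hwc hwA
  have hwT : w ∈ TT (S : Subgroup G) p := hw ▸ (mem_normalizer_iff.1 (h.le_norm_T hx) _).1 (hQT heQ)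
  -- Claim A
  have hA : ∃ d ∈ o2 P, d * m * d⁻¹ = q * m := by
    by_contra hcon
    push Not at hcon
    have hDm : ∀ d ∈ o2 P, d * m * d⁻¹ = m := fun d hd =>
      (hTm d (h.D_le_T hG S hd)).resolve_right (hcon d hd)
    have hnz : nn p ∈ zc (o2 (centralizer ({aa p} : Set G))) := by
      have haz : aa p ∈ zc (o2 (centralizer ({nn p} : Set G))) :=
        mul_mem hp2z (p_zcQ hG S h t (by decide) (by decide))
      have := zc_conj hxn haz
      rwa [hxa] at this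
    have hmQ : m ∈ o2 (centralizer ({aa p} : Set G)) := by
      refine fact hnz hmz ?_ fun u hu => hDm u ?_
      · rw [aa, cm, hDp hmD, hDp hmD]
      · have h1 := zcQ_D hG S h t (zc_conj' hxn hu)
        have h2 := hD (h.le hx) h1
        have e1 : x * (x⁻¹ * u * x) * x⁻¹ = u := by group
        rwa [e1] at h2
    -- elements of `T` fixing `p 2` centralise `m`
    have hem : e * m * e⁻¹ = m := comm_iff.2 ((mem_zc.1 hmz).2.1 e heQ)
    have hfix : ∀ τ ∈ TT (S : Subgroup G) p, τ * p 2 * τ⁻¹ = p 2 → τ * m * τ⁻¹ = m := by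
      intro τ hτ h2
      obtain ⟨σ, hσ⟩ := h.perm τ (h.le (T_le hτ))
      have hσ' : Ac p τ σ := hσ
      have k2 : σ 2 = 2 := h.inj (by rw [← hσ, h2])
      have k4 : σ 4 = 4 := h.inj (by rw [← hσ, h.fix (T_le hτ)])
      have k3 : σ 3 = 3 := by
        have h3 := h.T_a hτ
        rw [aa, cm, h2, hσ] at h3
        exact h.inj (mul_left_cancel h3)
      rcases dec_swap σ k2 k3 k4 with e1 | e1
      · exact hDm τ ((h.mem_D hG S).2 ⟨T_le hτ, fun i => by rw [hσ, e1]; rfl⟩)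
      · have h3 : e⁻¹ * τ ∈ o2 P := by
          refine (h.mem_D hG S).2 ⟨mul_mem (inv_mem (T_le (hQT heQ))) (T_le hτ), fun i => ?_⟩
          have h4 := hea.inv.mul hσ' i
          rw [h4, e1]
          simp
        calc τ * m * τ⁻¹ = e * ((e⁻¹ * τ) * m * (e⁻¹ * τ)⁻¹) * e⁻¹ := by group
          _ = m := by rw [hDm _ h3, hem]
    -- `w` moves `m`
    have hw2 : w * p 2 * w⁻¹ = p 3 := by rw [hwA 2]; rfl
    have hrwT : r * w * r⁻¹ ∈ TT (S : Subgroup G) p := (mem_normalizer_iff.1 (t.nrm hr) _).1 hwT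
    have hrwm : (r * w * r⁻¹) * m * (r * w * r⁻¹)⁻¹ = q * m := by
      calc (r * w * r⁻¹) * m * (r * w * r⁻¹)⁻¹ = r * (w * p 2 * w⁻¹) * r⁻¹ := by rw [hm]; group
        _ = q * m := by rw [hw2, hm3]
    have hrw2 : (r * w * r⁻¹) * p 2 * (r * w * r⁻¹)⁻¹ = p 3 := by
      refine (T_perm S h hrwT).resolve_left fun h3 => hq1 ?_
      have h4 := hfix _ hrwT h3
      rw [hrwm] at h4
      exact mul_eq_right.1 h4
    have hwm : w * m * w⁻¹ = q * m := by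
      have h3 : (w⁻¹ * (r * w * r⁻¹)) * p 2 * (w⁻¹ * (r * w * r⁻¹))⁻¹ = p 2 := by
        calc (w⁻¹ * (r * w * r⁻¹)) * p 2 * (w⁻¹ * (r * w * r⁻¹))⁻¹
            = w⁻¹ * ((r * w * r⁻¹) * p 2 * (r * w * r⁻¹)⁻¹) * w := by group
          _ = w⁻¹ * (w * p 2 * w⁻¹) * w := by rw [hrw2, hw2]
          _ = p 2 := by group
      have h4 := hfix _ (mul_mem (inv_mem hwT) hrwT) h3
      calc w * m * w⁻¹ = w * ((w⁻¹ * (r * w * r⁻¹)) * m * (w⁻¹ * (r * w * r⁻¹))⁻¹) * w⁻¹ := by rw [h4]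
        _ = (r * w * r⁻¹) * m * (r * w * r⁻¹)⁻¹ := by group
        _ = q * m := hrwm
    rcases hwc m hmQ with h3 | h3
    · rw [hwm] at h3
      exact hq1 (mul_eq_right.1 h3)
    · rw [hwm] at h3
      exact hqa (mul_right_cancel h3)
  obtain ⟨d, hd, hdm⟩ := hA
  -- Claim B
  obtain ⟨g, hg, hgp⟩ := h.full (Equiv.swap 0 2 * (Equiv.swap 1 4 * Equiv.swap 4 3))
  have hgA : Ac p g (Equiv.swap 0 2 * (Equiv.swap 1 4 * Equiv.swap 4 3)) := hgp
  have hgn : g * nn p * g⁻¹ = p 2 * p 4 := by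
    rw [nn, cm, hgp, hgp]
    rfl
  obtain ⟨hw'Q, hw'c⟩ := conj_e hG S h t E hgn
  have hw'A : Ac p (g * e * g⁻¹) (Equiv.swap 2 4) := by
    have h1 := (hgA.mul hea).mul hgA.inv
    have e1 : (Equiv.swap 0 2 * (Equiv.swap 1 4 * Equiv.swap 4 3)) * Equiv.swap 0 1 *
        (Equiv.swap 0 2 * (Equiv.swap 1 4 * Equiv.swap 4 3))⁻¹ = (Equiv.swap 2 4 : Equiv.Perm (Fin 5)) := by
      decide +kernel
    rwa [e1] at h1
  obtain ⟨w', hw'⟩ : ∃ w', w' = g * e * g⁻¹ := ⟨_, rfl⟩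
  rw [← hw'] at hw'Q hw'c hw'A
  have hw'P : w' ∈ P := hw' ▸ mul_mem (mul_mem hg (h.le (T_le (hQT heQ)))) (inv_mem hg)
  have hUD := zcQ_D' hG S h t hg hgn
  have hDρ : ∀ {y : G}, y ∈ o2 P → y * (p 2 * p 4) * y⁻¹ = p 2 * p 4 := fun hy => by rw [cm, hDp hy, hDp hy]
  have hnρ : nn p ∈ zc (o2 (centralizer ({p 2 * p 4} : Set G))) := by
    have h1 := zc_conj hgn (mul_mem hp2z (p_zcQ hG S h t (i := 3) (by decide) (by decide)))
    rw [cm, hgp, hgp] at h1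
    exact h1
  have hw'q : w' * q * w'⁻¹ = q := by
    by_cases hcase : ∀ u ∈ zc (o2 (centralizer ({p 2 * p 4} : Set G))), u * m * u⁻¹ = m
    · have hmQ := fact hnρ hmz (hDρ hmD) hcase
      obtain ⟨b, hb⟩ : ∃ b, b = w' * d * w'⁻¹ := ⟨_, rfl⟩
      have hbD : b ∈ o2 P := hb ▸ hD hw'P hd
      have h1 : b * (w' * m * w'⁻¹) * b⁻¹ = (w' * q * w'⁻¹) * (w' * m * w'⁻¹) := by
        calc b * (w' * m * w'⁻¹) * b⁻¹ = w' * (d * m * d⁻¹) * w'⁻¹ := by rw [hb]; group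
          _ = (w' * q * w'⁻¹) * (w' * m * w'⁻¹) := by rw [hdm, cm]
      have h2 : b * m * b⁻¹ = (w' * q * w'⁻¹) * m := by
        rcases hw'c m hmQ with h3 | h3
        · rwa [h3] at h1
        · rw [h3, cm, hDρ hbD] at h1
          -- `ρ * (b m b⁻¹) = (w' q w'⁻¹) * (ρ * m)`
          have h4 : (w' * q * w'⁻¹) * (p 2 * p 4) = (p 2 * p 4) * (w' * q * w'⁻¹) := by
            have h5 : q * (p 2 * p 4) = (p 2 * p 4) * q := by
              rw [← (mem_zc.1 hqS).2.1 _ (mul_mem (h.pS 2) (h.pS 4))]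
            have h6 : w' * (p 2 * p 4) * w'⁻¹ = p 2 * p 4 := by
              rw [cm, hw'A, hw'A]
              exact h.comm _ _
            calc (w' * q * w'⁻¹) * (p 2 * p 4) = w' * q * w'⁻¹ * (w' * (p 2 * p 4) * w'⁻¹) := by rw [h6]
              _ = w' * (q * (p 2 * p 4)) * w'⁻¹ := by group
              _ = w' * (p 2 * p 4) * w'⁻¹ * (w' * q * w'⁻¹) := by rw [h5]; group
              _ = _ := by rw [h6]
          exact mul_left_cancel (h1.trans (by rw [← mul_assoc, h4, mul_assoc]))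
      rcases hTm b (h.D_le_T hG S hbD) with h3 | h3
      · exfalso
        rw [h3] at h2
        have h4 : w' * q * w'⁻¹ = 1 := mul_eq_right.1 h2.symm
        exact hq1 (conj_inj (g := w') (by rw [h4]; group))
      · rw [h3] at h2
        exact (mul_right_cancel h2).symm
    · push Not at hcase
      obtain ⟨u, hu, hum⟩ := hcase
      have h1 := (hTm u (h.D_le_T hG S (hUD hu))).resolve_left hum
      have h2 : q ∈ zc (o2 (centralizer ({p 2 * p 4} : Set G))) := by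
        have h3 := mul_mem hu (norm_zc_cent (hDρ hmD) (inv_mem hu))
        have e1 : u * (m * u⁻¹ * m⁻¹) = q := by
          calc u * (m * u⁻¹ * m⁻¹) = u * m * u⁻¹ * m⁻¹ := by group
            _ = q := by rw [h1]; group
        rwa [e1] at h3
      exact comm_iff.2 ((mem_zc.1 h2).2.1 w' hw'Q)
  -- the end
  refine (h.zc4 q hqS).resolve_right fun h5 => ?_
  obtain ⟨v, hv⟩ : ∃ v, v = q * p 4 := ⟨_, rfl⟩
  rw [← hv] at h5
  have hqv : q = v * p 4 := by rw [hv, mul_assoc, h.sq, mul_one]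
  rw [hqv, cm, h.cen v h5 w' hw'P, hw'A 4, Equiv.swap_apply_right] at hw'q
  exact absurd (h.inj (mul_left_cancel hw'q)) (by decide)

omit t in
/-- **The output of (0)-(2).** -/
theorem exists_out (hN : NCen p) {e : G} (E : El p e) : ∃ r v w, Out S P V0 p r v e w := by
  obtain ⟨T₁, t⟩ := R.exists_tOne S h hN
  obtain ⟨r, hr, hrT⟩ := t.ex
  obtain ⟨g, hg, hgp⟩ := h.full (Equiv.swap 0 2 * (Equiv.swap 1 4 * Equiv.swap 4 3))
  have hgA : Ac p g (Equiv.swap 0 2 * (Equiv.swap 1 4 * Equiv.swap 4 3)) := hgp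
  have hgn : g * nn p * g⁻¹ = p 2 * p 4 := by
    rw [nn, cm, hgp, hgp]
    rfl
  have hea := e_ac hG S h t E
  obtain ⟨hw'Q, hw'c⟩ := conj_e hG S h t E hgn
  have hw'A : Ac p (g * e * g⁻¹) (Equiv.swap 2 4) := by
    have h1 := (hgA.mul hea).mul hgA.inv
    have e1 : (Equiv.swap 0 2 * (Equiv.swap 1 4 * Equiv.swap 4 3)) * Equiv.swap 0 1 *
        (Equiv.swap 0 2 * (Equiv.swap 1 4 * Equiv.swap 4 3))⁻¹ = (Equiv.swap 2 4 : Equiv.Perm (Fin 5)) := by
      decide +kernel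
    rwa [e1] at h1
  have hp2z := p_zcQ hG S h t (i := 2) (by decide) (by decide)
  have hnρ : nn p ∈ zc (o2 (centralizer ({p 2 * p 4} : Set G))) := by
    have h1 := zc_conj hgn (mul_mem hp2z (p_zcQ hG S h t (i := 3) (by decide) (by decide)))
    rw [cm, hgp, hgp] at h1
    exact h1
  refine ⟨r, r * aa p * r⁻¹, g * e * g⁻¹, { h with
    char2 := hG
    r_T := t.nrm hr
    r_sq := R.rr_mem S h t hr hrT
    r_n := t.cen r hr
    r_a := rfl
    r_v := R.rr_a S h t hr hrT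
    v_mem := v_mem hG S h t E hr hrT
    Q_T := Q_le hG S h t
    V_Q := fun x hx => V_Q hG S h t hx
    Q_V := fun q hq x hx => Q_V hG S h t hq hx
    zcQ_D := zcQ_D hG S h t
    e_mem := e_mem hG S h E
    e_p := hea
    w_mem := hw'Q
    w_p := hw'A
    w_Q := hw'c
    zcQ'_D := zcQ_D' hG S h t hg hgn
    fact := fun y hy hc => fact hnρ hy ?_ fun u hu => comm_iff.2 (hc u hu).symm }⟩
  have h1 := ((h.mem_D hG S).1 (zcQ_D hG S h t hy)).2
  rw [cm, h1, h1]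

end Cfsg.Agent.Omega.F4Leaf.Cen.V
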